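import Groth.Agent.CAlg1.CMPoly
import Groth.Agent.CAlg1.Sk
import Groth.Agent.EGA4Alg4.CMLoc
import Groth.Agent.Gor18.Poly
import Groth.Agent.Gor18.Flat
import Groth.Agent.Desc59.SyntomicCM

/-!
# Depth, dimension, Cohen-Macaulay and Gorenstein at primes

Transfer along localizations, quotients by a regular element and polynomial extensions.
-/

set_option autoImplicit false

universe u

open IsLocalRing

namespace Groth.Agent.FiltBl13

open Groth.Agent.EGA4Alg4 Groth.Agent.CAlg1

/-- depth of the local ring at a prime -/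
noncomputable abbrev dep {A : Type u} [CommRing A] (p : Ideal A) [p.IsPrime] : ℕ∞ :=
  LocCoh.depth (Localization.AtPrime p) (Localization.AtPrime p)

theorem noeth_loc {A : Type u} [CommRing A] [IsNoetherianRing A] (p : Ideal A) [p.IsPrime] :
    IsNoetherianRing (Localization.AtPrime p) :=
  IsLocalization.isNoetherianRing p.primeCompl _ inferInstance

/-- the local ring at a prime of a localization -/
theorem nonempty_locEquiv {R S : Type u} [CommRing R] [CommRing S] [Algebra R S] (M : Submonoid R)
    [IsLocalization M S] (P : Ideal S) [P.IsPrime] (q : Ideal R) [q.IsPrime]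
    (h : P.comap (algebraMap R S) = q) :
    Nonempty (Localization.AtPrime q ≃+* Localization.AtPrime P) := by
  have : IsLocalization.AtPrime (Localization.AtPrime P) q := by
    subst h
    exact IsLocalization.isLocalization_isLocalization_atPrime_isLocalization M
      (Localization.AtPrime P) P
  exact ⟨(IsLocalization.algEquiv q.primeCompl (Localization.AtPrime q)
    (Localization.AtPrime P)).toRingEquiv⟩

theorem invariants_congr {A B : Type u} [CommRing A] [CommRing B] [IsNoetherianRing A]
    [IsNoetherianRing B] {p : Ideal A} [p.IsPrime] {q : Ideal B} [q.IsPrime]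
    (e : Localization.AtPrime p ≃+* Localization.AtPrime q) :
    dep p = dep q ∧ p.height = q.height := by
  have := noeth_loc p
  have := noeth_loc q
  refine ⟨depth_eq_of_ringEquiv e, ?_⟩
  have h := ringKrullDim_eq_of_ringEquiv e
  rwa [IsLocalization.AtPrime.ringKrullDim_eq_height p,
    IsLocalization.AtPrime.ringKrullDim_eq_height q, WithBot.coe_inj] at h

theorem cm_iff {A : Type u} [CommRing A] [IsNoetherianRing A] (p : Ideal A) [p.IsPrime] :
    LocCoh.IsCohenMacaulayLocalRing (Localization.AtPrime p) ↔ p.height ≤ dep p := by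
  have := noeth_loc p
  rw [CAlg1.cmLocal_iff, IsLocalization.AtPrime.ringKrullDim_eq_height p, WithBot.coe_le_coe]

theorem cm_mono {A : Type u} [CommRing A] [IsNoetherianRing A] {p P : Ideal A} [p.IsPrime]
    [P.IsPrime] (h : p ≤ P) (hP : LocCoh.IsCohenMacaulayLocalRing (Localization.AtPrime P)) :
    LocCoh.IsCohenMacaulayLocalRing (Localization.AtPrime p) := by
  let L := Localization.AtPrime P
  have := noeth_loc P
  have hdisj : Disjoint (P.primeCompl : Set A) (p : Set A) :=
    Set.disjoint_left.2 fun x hx hxp => hx (h hxp)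
  let p' : Ideal L := p.map (algebraMap A L)
  have : p'.IsPrime := IsLocalization.isPrime_of_isPrime_disjoint P.primeCompl _ p ‹_› hdisj
  obtain ⟨e⟩ := nonempty_locEquiv P.primeCompl p' p
    (IsLocalization.under_map_of_isPrime_disjoint P.primeCompl _ ‹_› hdisj)
  refine CAlg1.cm_of_ringEquiv e.symm ((cm_iff p').2 ?_)
  have hsupp : (⟨p', ‹_›⟩ : PrimeSpectrum L) ∈ Module.support L L := by
    rw [Module.mem_support_iff_of_finite, CAlg1.annihilator_self]
    exact bot_le
  have h2 := (localization_cm_and_dim (M := L) hP.supportDim_eq_depth ⟨p', ‹_›⟩ hsupp).1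
  rw [LocCoh.IsCohenMacaulayModule, CAlg1.supportDim_locSelf, CAlg1.depth_locSelf,
    WithBot.coe_inj] at h2
  exact h2.le

theorem gor_mono {A : Type u} [CommRing A] {p P : Ideal A} [p.IsPrime]
    [P.IsPrime] (h : p ≤ P) (hP : LocCoh.IsGorensteinLocalRing (Localization.AtPrime P)) :
    LocCoh.IsGorensteinLocalRing (Localization.AtPrime p) := by
  let L := Localization.AtPrime P
  have hdisj : Disjoint (P.primeCompl : Set A) (p : Set A) :=
    Set.disjoint_left.2 fun x hx hxp => hx (h hxp)
  let p' : Ideal L := p.map (algebraMap A L)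
  have : p'.IsPrime := IsLocalization.isPrime_of_isPrime_disjoint P.primeCompl _ p ‹_› hdisj
  obtain ⟨e⟩ := nonempty_locEquiv P.primeCompl p' p
    (IsLocalization.under_map_of_isPrime_disjoint P.primeCompl _ ‹_› hdisj)
  exact (Gor18.gor_congr e).2 (Gor18.gor_localization L p')

theorem smulRegular_loc {A : Type u} [CommRing A] {f : A} (hf : f ∈ nonZeroDivisors A)
    (p : Ideal A) [p.IsPrime] :
    IsSMulRegular (Localization.AtPrime p) (algebraMap A (Localization.AtPrime p) f) := by
  have h := IsLocalization.map_nonZeroDivisors_le p.primeCompl (Localization.AtPrime p)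
    (Submonoid.mem_map.2 ⟨f, hf, rfl⟩)
  intro x y hxy
  exact (mul_cancel_left_mem_nonZeroDivisors h).1 hxy

theorem quotient_invariants {A : Type u} [CommRing A] [IsNoetherianRing A] {f : A}
    (hf : f ∈ nonZeroDivisors A) (q : Ideal (A ⧸ Ideal.span {f})) [q.IsPrime] (p : Ideal A)
    [p.IsPrime] (h : q.comap (Ideal.Quotient.mk (Ideal.span {f})) = p) :
    dep p = dep q + 1 ∧ p.height = q.height + 1 := by
  have hfp : f ∈ p := by
    rw [← h, Ideal.mem_comap, Ideal.Quotient.eq_zero_iff_mem.2 (Ideal.mem_span_singleton_self f)]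
    exact zero_mem _
  let L := Localization.AtPrime p
  let x : L := algebraMap A L f
  have := noeth_loc p
  have := noeth_loc q
  have hx : x ∈ maximalIdeal L := (IsLocalization.AtPrime.to_map_mem_maximal_iff L p f).2 hfp
  have hreg : IsSMulRegular L x := smulRegular_loc hf p
  have hI : (Ideal.span {f}).map (algebraMap A L) = Ideal.span {x} := by
    rw [Ideal.map_span, Set.image_singleton]
  have : Nontrivial (L ⧸ Ideal.span {x}) := Ideal.Quotient.nontrivial_iff.2
    (ne_top_of_le_ne_top (maximalIdeal.isMaximal L).ne_top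
      ((Ideal.span_singleton_le_iff_mem _).2 hx))
  have := IsLocalRing.of_surjective' (Ideal.Quotient.mk (Ideal.span {x})) Ideal.Quotient.mk_surjective
  have := Gor18.isLocalization_atPrime_quotient p L (Ideal.span {f}) q h
  let e : Localization.AtPrime q ≃+* L ⧸ Ideal.span {x} :=
    (IsLocalization.algEquiv q.primeCompl (Localization.AtPrime q)
      (L ⧸ (Ideal.span {f}).map (algebraMap A L))).toRingEquiv.trans (Ideal.quotEquivOfEq hI)
  refine ⟨?_, ?_⟩
  · have h1 := depth_quotSMulTop_add_one (M := L) hx hreg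
    have h2 : LocCoh.depth L (QuotSMulTop x L) = LocCoh.depth L (L ⧸ Ideal.span {x}) := by
      refine depth_eq_of_equiv (Submodule.quotEquivOfEq _ _ ?_)
      rw [← Submodule.ideal_span_singleton_smul, smul_eq_mul, Ideal.mul_top]
    rw [h2, CAlg1.depth_quotient_self] at h1
    show LocCoh.depth L L = _
    rw [← h1]
    exact congrArg (· + 1) (depth_eq_of_ringEquiv e).symm
  · have h1 := ringKrullDim_quotient_span_singleton_succ_eq_ringKrullDim_of_mem_nonZeroDivisors
      (show x ∈ nonZeroDivisors L from mem_nonZeroDivisors_iff_right.2 fun a ha =>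
        hreg (show x * a = x * 0 by rw [mul_zero, mul_comm, ha])) hx
    rw [← ringKrullDim_eq_of_ringEquiv e, IsLocalization.AtPrime.ringKrullDim_eq_height q,
      IsLocalization.AtPrime.ringKrullDim_eq_height p] at h1
    exact_mod_cast h1.symm

theorem cm_quotient_iff {A : Type u} [CommRing A] [IsNoetherianRing A] {f : A}
    (hf : f ∈ nonZeroDivisors A) (q : Ideal (A ⧸ Ideal.span {f})) [q.IsPrime] (p : Ideal A)
    [p.IsPrime] (h : q.comap (Ideal.Quotient.mk (Ideal.span {f})) = p) :
    LocCoh.IsCohenMacaulayLocalRing (Localization.AtPrime p) ↔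
      LocCoh.IsCohenMacaulayLocalRing (Localization.AtPrime q) := by
  obtain ⟨h1, h2⟩ := quotient_invariants hf q p h
  rw [cm_iff, cm_iff, h1, h2, ENat.add_le_add_iff_right ENat.one_ne_top]

theorem gor_quotient_iff' {A : Type u} [CommRing A] [IsNoetherianRing A] {f : A}
    (hf : f ∈ nonZeroDivisors A) (q : Ideal (A ⧸ Ideal.span {f})) [q.IsPrime] (p : Ideal A)
    [p.IsPrime] (h : q.comap (Ideal.Quotient.mk (Ideal.span {f})) = p) :
    LocCoh.IsGorensteinLocalRing (Localization.AtPrime p) ↔
      LocCoh.IsGorensteinLocalRing (Localization.AtPrime q) := by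
  subst h
  exact (Gor18.gor_atPrime_quotient_iff q (smulRegular_loc hf _)).symm

/-- the quotient by a regular element, given by any surjection -/
theorem cm_surj_iff {A B : Type u} [CommRing A] [CommRing B] [IsNoetherianRing A] {f : A}
    (hf : f ∈ nonZeroDivisors A) (φ : A →+* B) (hφ : Function.Surjective φ)
    (hker : RingHom.ker φ = Ideal.span {f}) (p : Ideal B) [p.IsPrime] :
    LocCoh.IsCohenMacaulayLocalRing (Localization.AtPrime (p.comap φ)) ↔
      LocCoh.IsCohenMacaulayLocalRing (Localization.AtPrime p) := by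
  let e : (A ⧸ Ideal.span {f}) ≃+* B := (Ideal.quotEquivOfEq hker.symm).trans
    (RingHom.quotientKerEquivOfSurjective hφ)
  have he : ∀ x, e (Ideal.Quotient.mk _ x) = φ x := fun x => rfl
  let q : Ideal (A ⧸ Ideal.span {f}) := p.comap e.toRingHom
  have : q.IsPrime := Ideal.comap_isPrime e.toRingHom p
  have hq : q.comap (Ideal.Quotient.mk (Ideal.span {f})) = p.comap φ := by
    ext x
    show e (Ideal.Quotient.mk _ x) ∈ p ↔ φ x ∈ p
    rw [he]
  refine (cm_quotient_iff hf q _ hq).trans ?_
  have hmap : Submonoid.map e.toMonoidHom q.primeCompl = p.primeCompl := by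
    ext x
    constructor
    · rintro ⟨y, hy, rfl⟩; exact hy
    · intro hx
      exact ⟨e.symm x, fun h => hx (by
        have h1 : e (e.symm x) ∈ p := h
        rwa [e.apply_symm_apply] at h1), e.apply_symm_apply x⟩
  let el : Localization.AtPrime q ≃+* Localization.AtPrime p :=
    IsLocalization.ringEquivOfRingEquiv (Localization.AtPrime q) (Localization.AtPrime p) e hmap
  exact ⟨CAlg1.cm_of_ringEquiv el, CAlg1.cm_of_ringEquiv el.symm⟩

theorem gorRing_quotient' {A : Type u} [CommRing A] [LocCoh.IsGorensteinRing A] {f : A}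
    (hf : f ∈ nonZeroDivisors A) : LocCoh.IsGorensteinRing (A ⧸ Ideal.span {f}) where
  isGorensteinLocalRing_localization q _ :=
    (gor_quotient_iff' hf q _ rfl).1
      (LocCoh.IsGorensteinRing.isGorensteinLocalRing_localization _)

section Poly

variable {A : Type u} [CommRing A] [IsNoetherianRing A]

omit [IsNoetherianRing A] in
theorem isPrime_mapC (q : Ideal A) [q.IsPrime] : (q.map Polynomial.C).IsPrime :=
  Ideal.isPrime_map_C_of_isPrime

omit [IsNoetherianRing A] in
theorem comap_mapC (q : Ideal A) : (q.map Polynomial.C).comap Polynomial.C = q := by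
  ext a
  rw [Ideal.mem_comap, Ideal.mem_map_C_iff]
  exact ⟨fun h => by simpa using h 0, fun h n => by
    rcases n with _ | n <;> simp [h]⟩

theorem cm_poly_of_cm (P : Ideal (Polynomial A)) [P.IsPrime] (q : Ideal A) [q.IsPrime]
    (hq : P.comap Polynomial.C = q)
    (h : LocCoh.IsCohenMacaulayLocalRing (Localization.AtPrime q)) :
    LocCoh.IsCohenMacaulayLocalRing (Localization.AtPrime P) := by
  subst hq
  obtain ⟨Q, hQ, hQc⟩ := CAlg1.exists_fibre_prime (R := A) P
  refine CAlg1.cmLocal_fibre (R := A) (P.comap Polynomial.C) Q P hQc h ?_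
  exact (CAlg1.cmRing_of_ringEquiv (polyEquivTensor A (P.comap Polynomial.C).ResidueField).toRingEquiv
    (CAlg1.cm_of_pid _)).isCohenMacaulayLocalRing_localization Q

omit [IsNoetherianRing A] in
theorem mapC_flat (q : Ideal A) [q.IsPrime] (P : Ideal (Polynomial A)) [P.IsPrime]
    (hP : P = q.map Polynomial.C) :
    ∃ (_ : Algebra (Localization.AtPrime q) (Localization.AtPrime P)),
      IsLocalHom (algebraMap (Localization.AtPrime q) (Localization.AtPrime P)) ∧
      Module.Flat (Localization.AtPrime q) (Localization.AtPrime P) ∧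
      (maximalIdeal (Localization.AtPrime q)).map
        (algebraMap (Localization.AtPrime q) (Localization.AtPrime P)) =
          maximalIdeal (Localization.AtPrime P) := by
  have : P.LiesOver q := ⟨by rw [hP]; exact (comap_mapC q).symm⟩
  let _ := Localization.AtPrime.algebraOfLiesOver q P
  refine ⟨inferInstance, Localization.isLocalHom_localRingHom q P _ _, inferInstance, ?_⟩
  have h1 : (maximalIdeal (Localization.AtPrime q)) = q.map (algebraMap A (Localization.AtPrime q)) :=
    Localization.AtPrime.map_eq_maximalIdeal.symm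
  have h2 : P.map (algebraMap (Polynomial A) (Localization.AtPrime P)) =
      maximalIdeal (Localization.AtPrime P) := Localization.AtPrime.map_eq_maximalIdeal
  have h3 : algebraMap A (Localization.AtPrime P) =
      (algebraMap (Polynomial A) (Localization.AtPrime P)).comp Polynomial.C :=
    IsScalarTower.algebraMap_eq A (Polynomial A) (Localization.AtPrime P)
  rw [h1, Ideal.map_map, ← IsScalarTower.algebraMap_eq, h3, ← Ideal.map_map, ← hP, h2]

theorem mapC_invariants (q : Ideal A) [q.IsPrime] (P : Ideal (Polynomial A)) [P.IsPrime]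
    (hP : P = q.map Polynomial.C) :
    dep P = dep q ∧ P.height = q.height := by
  obtain ⟨_, hl, hfl, hm⟩ := mapC_flat q P hP
  have := noeth_loc q
  have := noeth_loc P
  have h0 := Unr55.ringKrullDim_eq_add_of_flat (Localization.AtPrime q) (Localization.AtPrime P)
  rw [hm] at h0
  let _ := Ideal.Quotient.field (maximalIdeal (Localization.AtPrime P))
  rw [ringKrullDim_eq_zero_of_isField
      (Field.toIsField (Localization.AtPrime P ⧸ maximalIdeal (Localization.AtPrime P))), add_zero,
    IsLocalization.AtPrime.ringKrullDim_eq_height P,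
    IsLocalization.AtPrime.ringKrullDim_eq_height q, WithBot.coe_inj] at h0
  refine ⟨?_, h0⟩
  show LocCoh.depth _ _ = _
  rw [CAlg1.depth_of_flat_local (Localization.AtPrime q) (Localization.AtPrime P), hm]
  suffices h : LocCoh.depth (Localization.AtPrime P)
      (Localization.AtPrime P ⧸ maximalIdeal (Localization.AtPrime P)) = 0 by
    rw [h, add_zero]
  rw [depth_eq_zero_iff]
  rw [associatedPrimes.eq_singleton_of_isPrimary
    (maximalIdeal.isMaximal (Localization.AtPrime P)).isPrime.isPrimary,
    (maximalIdeal.isMaximal (Localization.AtPrime P)).isPrime.radical]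
  rfl

theorem cm_of_mapC (q : Ideal A) [q.IsPrime] (P : Ideal (Polynomial A)) [P.IsPrime]
    (hP : P = q.map Polynomial.C) :
    LocCoh.IsCohenMacaulayLocalRing (Localization.AtPrime P) ↔
      LocCoh.IsCohenMacaulayLocalRing (Localization.AtPrime q) := by
  obtain ⟨h1, h2⟩ := mapC_invariants q P hP
  rw [cm_iff, cm_iff, h1, h2]

theorem cm_poly_iff (P : Ideal (Polynomial A)) [P.IsPrime] (q : Ideal A) [q.IsPrime]
    (hq : P.comap Polynomial.C = q) :
    LocCoh.IsCohenMacaulayLocalRing (Localization.AtPrime P) ↔
      LocCoh.IsCohenMacaulayLocalRing (Localization.AtPrime q) := by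
  refine ⟨fun h => ?_, cm_poly_of_cm P q hq⟩
  have := isPrime_mapC q
  exact (cm_of_mapC q _ rfl).1 (cm_mono (Ideal.map_le_iff_le_comap.2 hq.ge) h)

theorem gor_of_mapC (q : Ideal A) [q.IsPrime] (P : Ideal (Polynomial A)) [P.IsPrime]
    (hP : P = q.map Polynomial.C)
    (h : LocCoh.IsGorensteinLocalRing (Localization.AtPrime P)) :
    LocCoh.IsGorensteinLocalRing (Localization.AtPrime q) := by
  obtain ⟨_, hl, hfl, hm⟩ := mapC_flat q P hP
  have := noeth_loc q
  have := noeth_loc P
  exact (Gor18.gor_flat_iff.1 h).1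

theorem hasSk_polynomial (k : ℕ) (hA : LocCoh.HasSk k A A) :
    LocCoh.HasSk k (Polynomial A) (Polynomial A) := by
  refine CAlg1.hasSk_of_flat_of_fibres (R := A) k hA fun p _ => ?_
  have := CAlg1.cmRing_of_ringEquiv (polyEquivTensor A p.ResidueField).toRingEquiv
    (CAlg1.cm_of_pid _)
  exact Desc59.SyntomicCM.hasSk_of_cm k

end Poly

end Groth.Agent.FiltBl13
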