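import Groth.Prelude.Def_W4c2filtblowupsingRees
import Groth.Agent.FiltBl13.LocalFacts

/-!
# Basic structure of the extended Rees algebra of a filtration
-/

set_option autoImplicit false

universe u

open LaurentPolynomial

namespace Groth.Agent.FiltBl13

open FiltBl

variable {A : Type u} [CommRing A] (𝓕 : IdealFiltration A)

theorem mem_extRees (f : A[T;T⁻¹]) : f ∈ 𝓕.extRees ↔ ∀ n : ℤ, f.coeff n ∈ 𝓕.F n.toNat := Iff.rfl

theorem F_toNat_nonpos {n : ℤ} (hn : n ≤ 0) (a : A) : a ∈ 𝓕.F n.toNat := by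
  rw [Int.toNat_of_nonpos hn, 𝓕.zero_eq]
  exact Submodule.mem_top

theorem coeff_CT (a : A) (n m : ℤ) :
    (C a * T n : A[T;T⁻¹]).coeff m = if m = n then a else 0 := by
  rw [← single_eq_C_mul_T, AddMonoidAlgebra.coeff_single, Finsupp.single_apply]
  simp [eq_comm]

theorem CT_mem {a : A} {n : ℤ} (h : a ∈ 𝓕.F n.toNat) : (C a * T n : A[T;T⁻¹]) ∈ 𝓕.extRees := by
  intro m
  rw [coeff_CT]
  split_ifs with hm
  · subst hm; exact h
  · exact zero_mem _

/-- the element `a T ^ n` of the extended Rees algebra -/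
noncomputable def mono (n : ℤ) (a : A) (h : a ∈ 𝓕.F n.toNat) : 𝓕.extRees :=
  ⟨C a * T n, CT_mem 𝓕 h⟩

@[simp] theorem coe_mono (n : ℤ) (a : A) (h : a ∈ 𝓕.F n.toNat) :
    ((mono 𝓕 n a h : 𝓕.extRees) : A[T;T⁻¹]) = C a * T n := rfl

@[simp] theorem coe_u : ((𝓕.u : 𝓕.extRees) : A[T;T⁻¹]) = T (-1) := rfl

theorem coe_algebraMap (a : A) :
    ((algebraMap A 𝓕.extRees a : 𝓕.extRees) : A[T;T⁻¹]) = C a := by
  rw [Subalgebra.coe_algebraMap, ← C_eq_algebraMap]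

theorem coeff_mul_T (f : A[T;T⁻¹]) (k m : ℤ) : (f * T k).coeff m = f.coeff (m - k) := by
  induction f using LaurentPolynomial.induction_on' with
  | add p q hp hq =>
    rw [add_mul, AddMonoidAlgebra.coeff_add, AddMonoidAlgebra.coeff_add, Finsupp.add_apply,
      Finsupp.add_apply, hp, hq]
  | C_mul_T n a =>
    rw [mul_assoc, ← T_add, coeff_CT, coeff_CT]
    simp [sub_eq_iff_eq_add]

theorem exists_mul_T_mem (f : A[T;T⁻¹]) :
    ∃ k : ℕ, f * T (-(k : ℤ)) ∈ 𝓕.extRees := by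
  refine ⟨f.coeff.support.sup Int.toNat, fun m => ?_⟩
  rw [coeff_mul_T]
  by_cases h : f.coeff (m - -((f.coeff.support.sup Int.toNat : ℕ) : ℤ)) = 0
  · rw [h]; exact zero_mem _
  · have h1 := Finset.le_sup (f := Int.toNat) (Finsupp.mem_support_iff.2 h)
    exact F_toNat_nonpos 𝓕 (by omega) _

theorem u_mem_nonZeroDivisors : 𝓕.u ∈ nonZeroDivisors 𝓕.extRees := by
  refine mem_nonZeroDivisors_iff_right.2 fun x hx => ?_
  have h := congrArg (fun y : 𝓕.extRees => (y : A[T;T⁻¹]) * T 1) hx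
  simp only [Subalgebra.coe_mul, coe_u, Subalgebra.coe_zero, zero_mul, mul_assoc, ← T_add,
    neg_add_cancel, T_zero, mul_one] at h
  exact Subtype.ext h

theorem isLocalization_away_u :
    IsLocalization.Away 𝓕.u A[T;T⁻¹] := by
  refine ⟨⟨?_, ?_, ?_⟩⟩
  · rintro ⟨y, n, rfl⟩
    rw [map_pow]
    exact (isUnit_T (-1)).pow n
  · intro z
    obtain ⟨k, hk⟩ := exists_mul_T_mem 𝓕 z
    refine ⟨⟨⟨_, hk⟩, ⟨𝓕.u ^ k, k, rfl⟩⟩, ?_⟩
    show z * ((𝓕.u ^ k : 𝓕.extRees) : A[T;T⁻¹]) = z * T (-(k : ℤ))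
    rw [SubmonoidClass.coe_pow, coe_u, T_pow]
    simp
  · intro x y h
    exact ⟨1, by rw [Subtype.ext (show (x : A[T;T⁻¹]) = y from h)]⟩

theorem coe_toLaurent_mem (f : 𝓕.rees) : Polynomial.toLaurent (f : Polynomial A) ∈ 𝓕.extRees := by
  intro n
  rw [Polynomial.toLaurent_apply]
  show (Finsupp.mapDomain (fun k : ℕ => (k : ℤ)) (f : Polynomial A).toFinsupp.coeff) n ∈ _
  rcases lt_or_ge n 0 with hn | hn
  · exact F_toNat_nonpos 𝓕 hn.le _
  · obtain ⟨k, rfl⟩ := Int.eq_ofNat_of_zero_le hn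
    rw [Finsupp.mapDomain_apply (fun a b h => by exact_mod_cast h)]
    exact f.2 k

/-- the inclusion of the Rees algebra in the extended Rees algebra -/
noncomputable def incl : 𝓕.rees →ₐ[A] 𝓕.extRees :=
  AlgHom.codRestrict ((Polynomial.toLaurentAlg).comp 𝓕.rees.val) 𝓕.extRees
    (fun f => coe_toLaurent_mem 𝓕 f)

@[simp] theorem coe_incl (f : 𝓕.rees) :
    ((incl 𝓕 f : 𝓕.extRees) : A[T;T⁻¹]) = Polynomial.toLaurent (f : Polynomial A) := rfl

theorem monomial_mem_rees {n : ℕ} {a : A} (h : a ∈ 𝓕.F n) :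
    Polynomial.monomial n a ∈ 𝓕.rees := by
  intro m
  rw [Polynomial.coeff_monomial]
  split_ifs with hm
  · subst hm; exact h
  · exact zero_mem _

theorem mono_neg (k : ℕ) (a : A) (h : a ∈ 𝓕.F (-(k : ℤ)).toNat) :
    mono 𝓕 (-(k : ℤ)) a h = algebraMap A 𝓕.extRees a * 𝓕.u ^ k := by
  apply Subtype.ext
  rw [Subalgebra.coe_mul, coe_algebraMap, SubmonoidClass.coe_pow, coe_u, T_pow, coe_mono]
  simp

theorem sum_mono (f : 𝓕.extRees) :
    ∑ n ∈ (f : A[T;T⁻¹]).coeff.support, mono 𝓕 n ((f : A[T;T⁻¹]).coeff n) (f.2 n) = f := by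
  apply Subtype.ext
  ext m
  rw [AddSubmonoidClass.coe_finsetSum, AddMonoidAlgebra.coeff_sum, Finsupp.finsetSum_apply]
  simp only [coe_mono, coeff_CT]
  rw [Finset.sum_ite_eq]
  split_ifs with h
  · rfl
  · exact (Finsupp.notMem_support_iff.1 h).symm

theorem isNoetherianRing_extRees [IsNoetherianRing A] (hfg : Algebra.FiniteType A 𝓕.rees) :
    IsNoetherianRing 𝓕.extRees := by
  have : IsNoetherianRing 𝓕.rees := Algebra.FiniteType.isNoetherianRing A 𝓕.rees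
  refine isNoetherianRing_of_surjective (Polynomial 𝓕.rees) 𝓕.extRees
    (Polynomial.eval₂RingHom (incl 𝓕).toRingHom 𝓕.u) fun f => ?_
  rw [← sum_mono 𝓕 f]
  refine Subsemiring.sum_mem (Polynomial.eval₂RingHom (incl 𝓕).toRingHom 𝓕.u).rangeS fun n _ => ?_
  rcases le_or_gt 0 n with hn | hn
  · obtain ⟨k, rfl⟩ := Int.eq_ofNat_of_zero_le hn
    refine ⟨Polynomial.C ⟨Polynomial.monomial k ((f : A[T;T⁻¹]).coeff (k : ℤ)),
      monomial_mem_rees 𝓕 (f.2 (k : ℤ))⟩, Subtype.ext ?_⟩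
    rw [Polynomial.coe_eval₂RingHom, Polynomial.eval₂_C]
    show Polynomial.toLaurent (Polynomial.monomial k ((f : A[T;T⁻¹]).coeff (k : ℤ))) = _
    rw [← Polynomial.C_mul_X_pow_eq_monomial, Polynomial.toLaurent_C_mul_X_pow]
    rfl
  · obtain ⟨k, rfl⟩ : ∃ k : ℕ, n = -(k : ℤ) := ⟨(-n).toNat, by omega⟩
    refine ⟨Polynomial.C (algebraMap A 𝓕.rees ((f : A[T;T⁻¹]).coeff (-(k : ℤ)))) * Polynomial.X ^ k, ?_⟩
    rw [Polynomial.coe_eval₂RingHom, Polynomial.eval₂_mul, Polynomial.eval₂_C,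
      Polynomial.eval₂_X_pow, mono_neg]
    exact congrArg (· * _) ((incl 𝓕).commutes _)

theorem one_notMem_F_one [Nontrivial A] (hsep : ⨅ n, 𝓕.F n = ⊥) : 𝓕.F 1 ≠ ⊤ := by
  intro h
  have h1 : ∀ n, (1 : A) ∈ 𝓕.F n := by
    intro n
    induction n with
    | zero => rw [𝓕.zero_eq]; exact Submodule.mem_top
    | succ n ih =>
      have := 𝓕.mul_le n 1 (Ideal.mul_mem_mul ih (h ▸ Submodule.mem_top : (1 : A) ∈ 𝓕.F 1))
      rwa [one_mul] at this
  exact one_ne_zero (α := A) (by simpa [hsep] using (Submodule.mem_iInf 𝓕.F).2 h1)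

theorem coeff_zero_mul_mem {I : Ideal A} (hI : 𝓕.F 1 ≤ I) (x y : 𝓕.extRees) :
    (x * y : A[T;T⁻¹]).coeff 0 - (x : A[T;T⁻¹]).coeff 0 * (y : A[T;T⁻¹]).coeff 0 ∈ I := by
  classical
  have hy := y.2
  revert hy
  generalize (y : A[T;T⁻¹]) = g
  intro hg
  have hfx : ∀ i : ℤ, i ≠ 0 → (x : A[T;T⁻¹]).coeff i * g.coeff (0 - i) ∈ I := by
    intro i hi
    rcases lt_or_gt_of_ne hi with h | h
    · exact Ideal.mul_mem_left _ _ (hI (𝓕.antitone (by omega) (hg (0 - i))))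
    · exact Ideal.mul_mem_right _ _ (hI (𝓕.antitone (by omega) (x.2 i)))
  have key : ((x : A[T;T⁻¹]) * g).coeff 0 =
      ∑ i ∈ (x : A[T;T⁻¹]).coeff.support, (x : A[T;T⁻¹]).coeff i * g.coeff (0 - i) := by
    conv_lhs => rw [← sum_mono 𝓕 x]
    rw [AddSubmonoidClass.coe_finsetSum, Finset.sum_mul, AddMonoidAlgebra.coeff_sum,
      Finsupp.finsetSum_apply]
    refine Finset.sum_congr rfl fun i _ => ?_
    rw [coe_mono, mul_assoc, T_mul, ← smul_eq_C_mul, AddMonoidAlgebra.coeff_smul,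
      Finsupp.smul_apply, coeff_mul_T, smul_eq_mul]
  by_cases h0 : (0 : ℤ) ∈ (x : A[T;T⁻¹]).coeff.support
  · rw [key, ← Finset.add_sum_erase _ _ h0, sub_zero, add_sub_cancel_left]
    exact Submodule.sum_mem _ fun i hi => hfx i (Finset.ne_of_mem_erase hi)
  · rw [key, Finsupp.notMem_support_iff.1 h0, zero_mul, sub_zero]
    exact Submodule.sum_mem _ fun i hi => hfx i (fun h => h0 (h ▸ hi))

/-- the ideal of elements with constant coefficient in a given ideal containing `F 1` -/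
noncomputable def Mz (I : Ideal A) (hI : 𝓕.F 1 ≤ I) : Ideal 𝓕.extRees where
  carrier := {f | (f : A[T;T⁻¹]).coeff 0 ∈ I}
  zero_mem' := by simp
  add_mem' {a b} ha hb := by
    show ((a + b : 𝓕.extRees) : A[T;T⁻¹]).coeff 0 ∈ I
    rw [Subalgebra.coe_add, AddMonoidAlgebra.coeff_add, Finsupp.add_apply]
    exact add_mem ha hb
  smul_mem' c f hf := by
    have h := add_mem (coeff_zero_mul_mem 𝓕 hI c f) (Ideal.mul_mem_left I ((c : A[T;T⁻¹]).coeff 0) hf)
    rw [sub_add_cancel] at h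
    exact h

theorem mem_Mz {I : Ideal A} {hI : 𝓕.F 1 ≤ I} {f : 𝓕.extRees} :
    f ∈ Mz 𝓕 I hI ↔ (f : A[T;T⁻¹]).coeff 0 ∈ I := Iff.rfl

theorem Mz_isPrime (I : Ideal A) [hp : I.IsPrime] (hI : 𝓕.F 1 ≤ I) : (Mz 𝓕 I hI).IsPrime where
  ne_top' h := hp.ne_top ((Ideal.eq_top_iff_one _).2 (by
    have h1 : (1 : 𝓕.extRees) ∈ Mz 𝓕 I hI := h ▸ Submodule.mem_top
    rw [mem_Mz, Subalgebra.coe_one, ← T_zero, T_apply, if_pos rfl] at h1
    exact h1))
  mem_or_mem' {x y} h := by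
    have h1 := coeff_zero_mul_mem 𝓕 hI x y
    have h2 := sub_mem (show (x * y : A[T;T⁻¹]).coeff 0 ∈ I from h) h1
    rw [sub_sub_cancel] at h2
    exact hp.mem_or_mem h2

theorem u_mem_Mz (I : Ideal A) (hI : 𝓕.F 1 ≤ I) : 𝓕.u ∈ Mz 𝓕 I hI := by
  rw [mem_Mz, coe_u, T_apply, if_neg (by omega)]
  exact zero_mem I

theorem u_not_isUnit [Nontrivial A] (hsep : ⨅ n, 𝓕.F n = ⊥) : ¬ IsUnit 𝓕.u := fun h => by
  obtain ⟨m, hm, hle⟩ := Ideal.exists_le_maximal _ (one_notMem_F_one 𝓕 hsep)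
  exact (Mz_isPrime 𝓕 m hle).ne_top (Ideal.eq_top_of_isUnit_mem _ (u_mem_Mz 𝓕 m hle) h)

/-- the ideal of elements all of whose coefficients lie in `q` -/
noncomputable def Qc (q : Ideal A) : Ideal 𝓕.extRees :=
  ((q.map Polynomial.C).map (algebraMap (Polynomial A) A[T;T⁻¹])).comap
    (algebraMap 𝓕.extRees A[T;T⁻¹])

theorem mem_map_laurent {q : Ideal A} {f : A[T;T⁻¹]} :
    f ∈ (q.map Polynomial.C).map (algebraMap (Polynomial A) A[T;T⁻¹]) ↔ ∀ n, f.coeff n ∈ q := by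
  rw [Ideal.map_map, show (algebraMap (Polynomial A) A[T;T⁻¹]).comp Polynomial.C =
    (LaurentPolynomial.C : A →+* A[T;T⁻¹]) from RingHom.ext fun a => Polynomial.toLaurent_C a]
  constructor
  · intro hf n
    induction hf using Submodule.span_induction generalizing n with
    | mem x hx =>
      obtain ⟨a, ha, rfl⟩ := hx
      rw [C_apply]
      split_ifs
      · exact ha
      · exact zero_mem q
    | zero => simp
    | add x y _ _ hx hy =>
      rw [AddMonoidAlgebra.coeff_add, Finsupp.add_apply]; exact add_mem (hx n) (hy n)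
    | smul c x _ hx =>
      rw [smul_eq_mul]
      induction c using LaurentPolynomial.induction_on' with
      | add p r hp hr =>
        rw [add_mul, AddMonoidAlgebra.coeff_add, Finsupp.add_apply]; exact add_mem hp hr
      | C_mul_T k a =>
        rw [mul_assoc, T_mul, ← smul_eq_C_mul, AddMonoidAlgebra.coeff_smul, Finsupp.smul_apply,
          coeff_mul_T, smul_eq_mul]
        exact Ideal.mul_mem_left _ _ (hx _)
  · intro h
    rw [← AddMonoidAlgebra.sum_coeff_single f]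
    refine Submodule.sum_mem _ fun n _ => ?_
    rw [single_eq_C_mul_T]
    exact Ideal.mul_mem_right _ _ (Ideal.mem_map_of_mem _ (h n))

theorem Qc_le_Mz {q I : Ideal A} (hI : 𝓕.F 1 ≤ I) (hqI : q ≤ I) : Qc 𝓕 q ≤ Mz 𝓕 I hI :=
  fun _ hf => hqI (mem_map_laurent.1 hf 0)

theorem disjoint_powers_mapC (q : Ideal A) [q.IsPrime] :
    Disjoint ((Submonoid.powers (Polynomial.X : Polynomial A) : Submonoid _) : Set (Polynomial A))
      (q.map Polynomial.C : Set (Polynomial A)) := by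
  refine Set.disjoint_left.2 ?_
  rintro _ ⟨n, rfl⟩ h
  have h1 := Ideal.mem_map_C_iff.1 h n
  rw [Polynomial.coeff_X_pow_self] at h1
  exact ‹q.IsPrime›.ne_top ((Ideal.eq_top_iff_one _).2 h1)

/-- the local ring at `Qc q` is the one of `q[X]` -/
theorem Qc_spec (q : Ideal A) [q.IsPrime] :
    ∃ (_ : (Qc 𝓕 q).IsPrime), 𝓕.u ∉ Qc 𝓕 q ∧ ∃ (_ : (q.map Polynomial.C).IsPrime),
      Nonempty (Localization.AtPrime (Qc 𝓕 q) ≃+* Localization.AtPrime (q.map Polynomial.C)) := by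
  have := isPrime_mapC q
  let P : Ideal A[T;T⁻¹] := (q.map Polynomial.C).map (algebraMap (Polynomial A) A[T;T⁻¹])
  have : P.IsPrime := IsLocalization.isPrime_of_isPrime_disjoint
    (Submonoid.powers (Polynomial.X : Polynomial A)) _ _ ‹_› (disjoint_powers_mapC q)
  have := isLocalization_away_u 𝓕
  have hP : (Qc 𝓕 q).IsPrime := inferInstanceAs (P.comap (algebraMap 𝓕.extRees A[T;T⁻¹])).IsPrime
  refine ⟨hP, fun h => ?_, ‹_›, ?_⟩
  · exact ‹P.IsPrime›.ne_top (Ideal.eq_top_of_isUnit_mem _ h (isUnit_T (-1)))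
  obtain ⟨e1⟩ := nonempty_locEquiv (Submonoid.powers 𝓕.u) P (Qc 𝓕 q) rfl
  obtain ⟨e2⟩ := nonempty_locEquiv (Submonoid.powers (Polynomial.X : Polynomial A)) P
    (q.map Polynomial.C)
    (IsLocalization.under_map_of_isPrime_disjoint _ _ ‹_› (disjoint_powers_mapC q))
  exact ⟨e1.trans e2.symm⟩

/-- the local ring at a prime avoiding `u` is a local ring of `A[X]` -/
theorem exists_poly_prime (P : Ideal 𝓕.extRees) [P.IsPrime] (hu : 𝓕.u ∉ P) :
    ∃ (Q : Ideal (Polynomial A)) (_ : Q.IsPrime),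
      Nonempty (Localization.AtPrime P ≃+* Localization.AtPrime Q) ∧
      ∀ (n : ℤ) (a : A) (h : a ∈ 𝓕.F n.toNat), mono 𝓕 n a h ∈ P ↔ Polynomial.C a ∈ Q := by
  have := isLocalization_away_u 𝓕
  have hdisj : Disjoint ((Submonoid.powers 𝓕.u : Submonoid _) : Set 𝓕.extRees) (P : Set 𝓕.extRees) :=
    (Ideal.disjoint_powers_iff_notMem_of_isPrime _).2 hu
  let P' : Ideal A[T;T⁻¹] := P.map (algebraMap 𝓕.extRees A[T;T⁻¹])
  have : P'.IsPrime := IsLocalization.isPrime_of_isPrime_disjoint (Submonoid.powers 𝓕.u) _ P ‹_› hdisj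
  have hP : P'.comap (algebraMap 𝓕.extRees A[T;T⁻¹]) = P :=
    IsLocalization.under_map_of_isPrime_disjoint (Submonoid.powers 𝓕.u) _ ‹_› hdisj
  let Q := P'.comap (algebraMap (Polynomial A) A[T;T⁻¹])
  obtain ⟨e1⟩ := nonempty_locEquiv (Submonoid.powers 𝓕.u) P' P hP
  obtain ⟨e2⟩ := nonempty_locEquiv (Submonoid.powers (Polynomial.X : Polynomial A)) P' Q rfl
  refine ⟨Q, inferInstance, ⟨e1.trans e2.symm⟩, fun n a h => ?_⟩
  show _ ↔ Polynomial.toLaurent (Polynomial.C a) ∈ P'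
  rw [Polynomial.toLaurent_C]
  conv_lhs => rw [← hP]
  show C a * T n ∈ P' ↔ _
  exact Ideal.mul_unit_mem_iff_mem _ (isUnit_T n)

theorem u_mem_of_quotient (q : Ideal 𝓕.Gr) [q.IsPrime] :
    𝓕.u ∈ q.comap (Ideal.Quotient.mk (Ideal.span {𝓕.u})) := by
  rw [Ideal.mem_comap, Ideal.Quotient.eq_zero_iff_mem.2 (Ideal.mem_span_singleton_self _)]
  exact zero_mem q

theorem exists_quotient_prime (P : Ideal 𝓕.extRees) [P.IsPrime] (hu : 𝓕.u ∈ P) :
    ∃ (q : Ideal 𝓕.Gr) (_ : q.IsPrime), q.comap (Ideal.Quotient.mk (Ideal.span {𝓕.u})) = P := by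
  have hle : RingHom.ker (Ideal.Quotient.mk (Ideal.span {𝓕.u})) ≤ P := by
    rw [Ideal.mk_ker]
    exact (Ideal.span_singleton_le_iff_mem _).2 hu
  exact ⟨P.map (Ideal.Quotient.mk _), Ideal.map_isPrime_of_surjective Ideal.Quotient.mk_surjective hle,
    by rw [Ideal.comap_map_of_surjective _ Ideal.Quotient.mk_surjective, ← RingHom.ker_eq_comap_bot,
      sup_eq_left.2 hle]⟩

end Groth.Agent.FiltBl13
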