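import Groth.Agent.GrMod19.HPos
import Groth.Agent.LC15.Basic

/-!
Graded local cohomology for the ideal of positive degree of a `ℤ`-graded Noetherian ring:
vanishing in high degree, and descent of vanishing along a regular element of degree `-1`.
-/

set_option autoImplicit false

universe u

open DirectSum Groth.Agent.GrMod19

namespace Groth.Agent.FiltBl13.GrVan

variable {R : Type u} [CommRing R] [IsNoetherianRing R] {σ : Type u} [SetLike σ R] [AddSubgroupClass σ R]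
  {𝒜 : ℤ → σ} [GradedRing 𝒜] {a : HomogeneousIdeal 𝒜} (ha : IsPlus a)
include ha

lemma exists_pow_of_degree (k : ℕ) : ∃ B : ℤ, ∀ n, B ≤ n → ∀ x ∈ 𝒜 n, x ∈ a.toIdeal ^ k := by
  classical
  obtain ⟨T, hTS, hT⟩ := (Submodule.fg_span_iff_fg_span_finset_subset (R := R)
    (⋃ n ∈ Set.Ioi (0 : ℤ), (𝒜 n : Set R))).1 (IsNoetherian.noetherian _)
  choose deg hdeg hg using fun b : T => Set.mem_iUnion₂.1 (hTS b.2)
  have hspan : Ideal.span (Set.range fun b : T => (b : R)) = a.toIdeal := by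
    rw [show (Set.range fun b : T => (b : R)) = (T : Set R) from Subtype.range_coe, ha]
    exact hT.symm
  induction k with
  | zero => exact ⟨0, fun n _ x _ => by rw [pow_zero, Ideal.one_eq_top]; trivial⟩
  | succ k ih =>
    obtain ⟨B, hB⟩ := ih
    refine ⟨max 1 B + ∑ b, deg b, fun n hn x hx => ?_⟩
    have hd : ∀ b, 0 < deg b := fun b => Set.mem_Ioi.1 (hdeg b)
    have hsum : ∀ b, deg b ≤ ∑ b, deg b := fun b =>
      Finset.single_le_sum (fun b _ => (hd b).le) (Finset.mem_univ b)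
    have hs0 : 0 ≤ ∑ b, deg b := Finset.sum_nonneg fun b _ => (hd b).le
    have hxa := mem_plus_of_mem ha (show 0 < n by omega) hx
    rw [← hspan, Ideal.mem_span_range_iff_exists_fun] at hxa
    obtain ⟨c, hc⟩ := hxa
    rw [← cmp_of_mem 𝒜 hx, ← hc, map_sum]
    refine sum_mem fun b _ => ?_
    rw [show c b * (b : R) = c b • (b : R) from rfl, cmp_smul_homog_right 𝒜 𝒜 n (hg b), smul_eq_mul,
      pow_succ]
    exact Ideal.mul_mem_mul (hB _ (by have := hsum b; omega) _ (cmp_mem 𝒜 _ _))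
      (hspan ▸ Submodule.subset_span ⟨b, rfl⟩)

lemma exists_bound_gam {M : Type u} [AddCommGroup M] [Module R M] [Module.Finite R M]
    (ℳ : ℤ → AddSubgroup M) [Decomposition ℳ] [SetLike.GradedSMul 𝒜 ℳ] :
    ∃ r : ℤ, ∀ n, r ≤ n → ∀ x ∈ GrLC.gam a.toIdeal M, x ∈ ℳ n → x = 0 := by
  classical
  have : IsNoetherian R M := isNoetherian_of_isNoetherianRing_of_finite R M
  obtain ⟨m, deg, g, hg, hspan⟩ := exists_homog_generators 𝒜 ℳ (GrLC.gam a.toIdeal M)
    (isHomogeneous_gam ℳ a) (IsNoetherian.noetherian _)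
  choose e he using fun b => (hspan ▸ Submodule.subset_span ⟨b, rfl⟩ : g b ∈ GrLC.gam a.toIdeal M)
  choose B hB using fun b => exists_pow_of_degree ha (e b)
  obtain ⟨r, hr⟩ := (Finset.univ.image fun b => B b + deg b).exists_le
  refine ⟨r, fun n hn x hx hxn => ?_⟩
  obtain ⟨c, hc⟩ := (Submodule.mem_span_range_iff_exists_fun R).1
    (show x ∈ Submodule.span R (Set.range g) by rw [hspan]; exact hx)
  rw [← cmp_of_mem ℳ hxn, ← hc, map_sum]
  refine Finset.sum_eq_zero fun b _ => ?_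
  rw [cmp_smul_homog_right 𝒜 ℳ n (hg b)]
  refine he b _ (hB b _ ?_ _ (cmp_mem 𝒜 _ _))
  have := hr _ (Finset.mem_image.2 ⟨b, Finset.mem_univ _, rfl⟩)
  omega

lemma exists_regular_homog {M : Type u} [AddCommGroup M] [Module R M] [Module.Finite R M]
    (h : GrLC.gam a.toIdeal M = ⊥) : ∃ (n : ℤ) (x : R), 0 < n ∧ x ∈ 𝒜 n ∧ IsSMulRegular M x := by
  classical
  have hfin := associatedPrimes.finite R M
  obtain ⟨n, x, hn, hx, hxs⟩ := exists_homog_avoid a ha _ hfin.toFinset rfl (fun P hP => by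
    have hPA : IsAssociatedPrime P M := AssociatedPrimes.mem_iff.1 (hfin.mem_toFinset.1 hP)
    refine ⟨hPA.isPrime, fun hle => ?_⟩
    obtain ⟨hprime, m, hm⟩ := Submodule.isAssociatedPrime_iff.1 hPA
    have hm0 : m = 0 := by
      rw [← Submodule.mem_bot R, ← h]
      refine ⟨1, fun r hr => ?_⟩
      rw [pow_one] at hr
      have := hle hr
      rw [hm] at this
      simpa using this
    exact hprime.ne_top (by rw [hm, hm0]; ext r; simp))
  refine ⟨n, x, hn, hx, ?_⟩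
  by_contra hreg
  have hzd : x ∈ ⋃ p ∈ associatedPrimes R M, (p : Set R) := by
    rw [biUnion_associatedPrimes_eq_zero_divisors]
    simp only [IsSMulRegular, Function.Injective, not_forall] at hreg
    obtain ⟨u, v, huv, hne⟩ := hreg
    exact ⟨u - v, sub_ne_zero.2 hne, by rw [smul_sub]; exact sub_eq_zero.2 huv⟩
  obtain ⟨P, hP, hxP⟩ := Set.mem_iUnion₂.1 hzd
  exact hxs P (hfin.mem_toFinset.2 hP) hxP

omit ha in
/-- the statement in cohomological degree `i` -/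
def VGood (a : HomogeneousIdeal 𝒜) (i : ℕ) : Prop :=
  ∀ (M : Type u) [AddCommGroup M] [Module R M] [Module.Finite R M] (ℳ : ℤ → AddSubgroup M) [Decomposition ℳ]
    [SetLike.GradedSMul 𝒜 ℳ] (E : GrLC.StarInjRes 𝒜 ℳ), ∃ r : ℤ, ∀ n, r ≤ n → E.Hcomp a i n = ⊥

/-- the step along a regular element -/
theorem vGood_torsionfree (i : ℕ) (ih : VGood a i) (M : Type u) [AddCommGroup M] [Module R M]
    [Module.Finite R M] (ℳ : ℤ → AddSubgroup M) [Decomposition ℳ] [SetLike.GradedSMul 𝒜 ℳ]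
    (E : GrLC.StarInjRes 𝒜 ℳ) (hM : GrLC.gam a.toIdeal M = ⊥) :
    ∃ r : ℤ, ∀ n, r ≤ n → E.Hcomp a (i + 1) n = ⊥ := by
  obtain ⟨k, x, hk, hx, hreg⟩ := exists_regular_homog ha hM
  let f : M →ₗ[R] M := x • LinearMap.id
  have hf : GrLC.IsGrHomDeg ℳ ℳ f k := fun g m hm => by
    rw [add_comm]
    exact smul_mem_add 𝒜 ℳ hx hm
  let P := LinearMap.range f
  have hP : P.IsHomogeneous ℳ := by
    rintro g _ ⟨m, rfl⟩
    refine ⟨cmp ℳ (g - k) m, ?_⟩
    have := map_cmp_deg ℳ ℳ hf (g - k) m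
    rwa [sub_add_cancel] at this
  let : Decomposition (GrInj18.quotPieces ℳ P) :=
    (GrInj18.quotPieces_isInternal ℳ hP).chooseDecomposition
  obtain ⟨Q⟩ := GrInj18.nonempty_starInjRes 𝒜 (GrInj18.quotPieces ℳ P)
  have S : Ses ℳ ℳ (GrInj18.quotPieces ℳ P) f P.mkQ k :=
    ⟨hf, GrInj18.isGrHom_mkQ ℳ P, hreg, LinearMap.exact_map_mkQ_range f, P.mkQ_surjective⟩
  obtain ⟨δ, hδ, -, -, hex, -⟩ := exists_les E E Q S a
  obtain ⟨r, hr⟩ := ih _ (GrInj18.quotPieces ℳ P) Q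
  refine ⟨r - k, fun n hn => (Submodule.eq_bot_iff _).2 fun y hy => ?_⟩
  have hxa : x ∈ a.toIdeal := mem_plus_of_mem ha hk hx
  obtain ⟨l, hl⟩ := exists_pow_smul_eq_zero E a (i + 1) hxa y
  induction l generalizing n y with
  | zero => simpa using hl
  | succ l ihl =>
    have hxy : x • y = 0 := ihl (n + k) (by omega) _ (smul_mem_Hcomp E a (i + 1) hx hy)
      (by rw [← mul_smul, ← pow_succ]; exact hl)
    obtain ⟨q, hq, rfl⟩ := exists_Hcomp_preimage Q a E (hδ i) (g := n + k)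
      (by rwa [add_neg_cancel_right]) ((hex i y).1 (by rw [hMap_smul a hx]; exact hxy))
    rw [hr (n + k) (by omega), Submodule.mem_bot] at hq
    rw [hq, map_zero]

/-- Serre vanishing: graded local cohomology is zero in high degree -/
theorem vGood : ∀ i, VGood a i := by
  intro i
  induction i with
  | zero =>
    intro M _ _ _ ℳ _ _ E
    obtain ⟨r, hr⟩ := exists_bound_gam ha ℳ
    exact ⟨r, fun n hn => Hcomp_zero_eq_bot E a fun m hm hmn => hr n hn m hm hmn⟩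
  | succ i ih =>
    intro M _ _ _ ℳ _ _ E
    let Γ := GrLC.gam a.toIdeal M
    have hΓ : Γ.IsHomogeneous ℳ := isHomogeneous_gam ℳ a
    let : Decomposition (GrInj18.subGr ℳ Γ) := (GrInj18.subGr_isInternal ℳ hΓ).chooseDecomposition
    let : Decomposition (GrInj18.quotPieces ℳ Γ) :=
      (GrInj18.quotPieces_isInternal ℳ hΓ).chooseDecomposition
    obtain ⟨D⟩ := GrInj18.nonempty_starInjRes 𝒜 (GrInj18.subGr ℳ Γ)
    obtain ⟨G⟩ := GrInj18.nonempty_starInjRes 𝒜 (GrInj18.quotPieces ℳ Γ)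
    have S : Ses (GrInj18.subGr ℳ Γ) ℳ (GrInj18.quotPieces ℳ Γ) Γ.subtype Γ.mkQ 0 :=
      ⟨isGrHomDeg_zero_iff.2 (GrInj18.isGrHom_subtype ℳ Γ), GrInj18.isGrHom_mkQ ℳ Γ, Γ.injective_subtype,
        LinearMap.exact_subtype_mkQ Γ, Γ.mkQ_surjective⟩
    obtain ⟨δ, -, hex, -, -, -⟩ := exists_les D E G S a
    have := subsingleton_H_of_torsion D a (isPowerTorsion_gam a.toIdeal) (Nat.succ_pos i)
    suffices h : ∃ r : ℤ, ∀ n, r ≤ n → G.Hcomp a (i + 1) n = ⊥ by
      obtain ⟨r, hr⟩ := h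
      refine ⟨r, fun n hn => (Submodule.eq_bot_iff _).2 fun y hy => ?_⟩
      have h2 := hMap_deg (E := E) (F := G) a (isGrHomDeg_zero_iff.2 S.hg) (i + 1) n y hy
      rw [add_zero] at h2
      have h3 : hMap E G a Γ.mkQ (isGrHomDeg_zero_iff.2 S.hg) (i + 1) y = 0 := by
        rw [← Submodule.mem_bot (R := GrLC.deg0 𝒜), ← hr n hn]
        exact h2
      obtain ⟨w, rfl⟩ := (hex (i + 1) y).1 h3
      rw [Subsingleton.elim w 0, map_zero]
    exact vGood_torsionfree ha i ih _ (GrInj18.quotPieces ℳ Γ) G (gam_quot_gam_eq_bot a.toIdeal)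

omit ha in
/-- If `H^i_{R₊}(R/uR) = 0` for a regular element `u` of degree `-1`, then `H^i_{R₊}(R) = 0`. -/
theorem subsingleton_H_of_quotient {R : Type u} [CommRing R] [IsNoetherianRing R]
    {𝒜 : ℤ → AddSubgroup R} [GradedRing 𝒜] {a : HomogeneousIdeal 𝒜} (ha : IsPlus a)
    {u : R} (hu : u ∈ 𝒜 (-1)) (hreg : u ∈ nonZeroDivisors R) (i : ℕ)
    (hq : Subsingleton (LocCoh.H a.toIdeal i (R ⧸ Ideal.span {u}))) :
    Subsingleton (LocCoh.H a.toIdeal i R) := by
  let f : R →ₗ[R] R := u • LinearMap.id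
  have hf : GrLC.IsGrHomDeg 𝒜 𝒜 f (-1) := fun g m hm => by
    rw [add_comm]
    exact smul_mem_add 𝒜 𝒜 hu hm
  let P := LinearMap.range f
  have hP : P.IsHomogeneous 𝒜 := by
    rintro g _ ⟨m, rfl⟩
    refine ⟨cmp 𝒜 (g - -1) m, ?_⟩
    have := map_cmp_deg 𝒜 𝒜 hf (g - -1) m
    rwa [sub_add_cancel] at this
  have hfi : Function.Injective f := fun x y h =>
    (mul_cancel_left_mem_nonZeroDivisors hreg).1 h
  let : Decomposition (GrInj18.quotPieces 𝒜 P) :=
    (GrInj18.quotPieces_isInternal 𝒜 hP).chooseDecomposition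
  obtain ⟨E⟩ := GrInj18.nonempty_starInjRes 𝒜 𝒜
  obtain ⟨G⟩ := GrInj18.nonempty_starInjRes 𝒜 (GrInj18.quotPieces 𝒜 P)
  have S : Ses 𝒜 𝒜 (GrInj18.quotPieces 𝒜 P) f P.mkQ (-1) :=
    ⟨hf, GrInj18.isGrHom_mkQ 𝒜 P, hfi, LinearMap.exact_map_mkQ_range f, P.mkQ_surjective⟩
  obtain ⟨δ, -, hex, -, -, -⟩ := exists_les E E G S a
  have hPeq : P = Ideal.span {u} := by
    ext x
    rw [Ideal.mem_span_singleton']
    exact ⟨fun ⟨c, hc⟩ => ⟨c, (mul_comm c u).trans hc⟩, fun ⟨c, hc⟩ => ⟨c, (mul_comm u c).trans hc⟩⟩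
  obtain ⟨eG⟩ := nonempty_H_equiv G a i
  obtain ⟨eE⟩ := nonempty_H_equiv E a i
  have hG : Subsingleton (G.H a i) :=
    (eG.trans (LC15.Hequiv a.toIdeal i (Submodule.quotEquivOfEq _ _ hPeq))).injective.subsingleton
  obtain ⟨r, hr⟩ := vGood ha i R 𝒜 E
  have key : ∀ (j : ℕ) (n : ℤ), r - j ≤ n → ∀ y ∈ E.Hcomp a i n, y = 0 := by
    intro j
    induction j with
    | zero =>
      intro n hn y hy
      rwa [hr n (by simpa using hn), Submodule.mem_bot] at hy
    | succ j ih =>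
      intro n hn y hy
      obtain ⟨y', hy', rfl⟩ := exists_Hcomp_preimage E a E (hMap_deg (E := E) (F := E) a hf i)
        (g := n + 1) (by rwa [add_neg_cancel_right]) ((hex i y).1 (Subsingleton.elim _ _))
      rw [ih (n + 1) (by omega) y' hy', map_zero]
  suffices Subsingleton (E.H a i) from eE.symm.injective.subsingleton
  refine subsingleton_of_forall_eq 0 fun y => ?_
  let := (isInternal_Hgr E a i).chooseDecomposition
  exact eq_zero_of_cmp (E.Hgr a i) fun d =>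
    key (r - d).toNat d (by omega) _ (cmp_mem (E.Hgr a i) d y)

end Groth.Agent.FiltBl13.GrVan
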