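import Groth.Agent.FiltBl13.ExtRees
import Groth.Agent.FiltBl13.GrVan
import Groth.Agent.LC15.Gamma
import Groth.Agent.LC16.FlatBC
import Groth.Agent.LC16.ChangeRings
import Mathlib.RingTheory.Flat.Localization
import Mathlib.RingTheory.Flat.FaithfullyFlat.Basic

/-!
The grading of the extended Rees algebra, and descent of local cohomology vanishing from the
associated graded ring.
-/

set_option autoImplicit false

universe u

open LaurentPolynomial FiltBl DirectSum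
open scoped TensorProduct

namespace Groth.Agent.FiltBl13

variable {A : Type u} [CommRing A] (𝓕 : IdealFiltration A)

/-- the degree `n` piece of the extended Rees algebra -/
noncomputable def extPiece (n : ℤ) : AddSubgroup 𝓕.extRees where
  carrier := {x | ∃ a : A, (x : A[T;T⁻¹]) = C a * T n}
  zero_mem' := ⟨0, by simp⟩
  add_mem' := by
    rintro x y ⟨a, ha⟩ ⟨b, hb⟩
    exact ⟨a + b, by rw [Subalgebra.coe_add, ha, hb, map_add, add_mul]⟩
  neg_mem' := by
    rintro x ⟨a, ha⟩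
    exact ⟨-a, by rw [Subalgebra.coe_neg, ha, map_neg, neg_mul]⟩

theorem mem_extPiece {n : ℤ} {x : 𝓕.extRees} :
    x ∈ extPiece 𝓕 n ↔ ∃ a : A, (x : A[T;T⁻¹]) = C a * T n := Iff.rfl

/-- projection onto the degree `n` piece -/
noncomputable def extProj (n : ℤ) : 𝓕.extRees →+ 𝓕.extRees :=
  AddMonoidHom.mk' (fun x => mono 𝓕 n ((x : A[T;T⁻¹]).coeff n) (x.2 n)) fun x y =>
    Subtype.ext (by
      simp only [coe_mono, Subalgebra.coe_add, AddMonoidAlgebra.coeff_add, Finsupp.add_apply, map_add,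
        add_mul])

theorem isInternal_extPiece : IsInternal (extPiece 𝓕) := by
  refine GrMod19.isInternal_of_proj (extProj 𝓕) _ (fun d m => ⟨_, rfl⟩) ?_ ?_ fun m => ⟨_, sum_mono 𝓕 m⟩
  · rintro d m ⟨a, ha⟩
    refine Subtype.ext ?_
    show C ((m : A[T;T⁻¹]).coeff d) * T d = _
    rw [ha, coeff_CT, if_pos rfl]
  · rintro d e m ⟨a, ha⟩ hne
    refine Subtype.ext ?_
    show C ((m : A[T;T⁻¹]).coeff e) * T e = _
    rw [ha, coeff_CT, if_neg hne.symm, map_zero, zero_mul]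
    rfl

instance extPiece_gradedMonoid : SetLike.GradedMonoid (extPiece 𝓕) where
  one_mem := ⟨1, by simp⟩
  mul_mem := by
    rintro i j x y ⟨a, ha⟩ ⟨b, hb⟩
    exact ⟨a * b, by rw [Subalgebra.coe_mul, ha, hb, map_mul, T_add]; ring⟩

noncomputable instance extDecomposition : DirectSum.Decomposition (extPiece 𝓕) :=
  (isInternal_extPiece 𝓕).chooseDecomposition _

noncomputable instance extGradedRing : GradedRing (extPiece 𝓕) where

/-- the generators of the ideal of positive degree -/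
def plusGens : Set 𝓕.extRees :=
  {x | ∃ n : ℤ, 0 < n ∧ ∃ a : A, (x : A[T;T⁻¹]) = C a * T n}

/-- the ideal of positive degree of the extended Rees algebra -/
noncomputable def extPlus : HomogeneousIdeal (extPiece 𝓕) :=
  ⟨Ideal.span (plusGens 𝓕), Ideal.homogeneous_span _ _ fun _ ⟨n, _, hx⟩ => ⟨n, hx⟩⟩

theorem extPlus_isPlus : GrMod19.IsPlus (extPlus 𝓕) := by
  show Ideal.span (plusGens 𝓕) = _
  congr 1
  ext x
  simp only [plusGens, Set.mem_iUnion, Set.mem_Ioi, Set.mem_ofPred_eq, SetLike.mem_coe, mem_extPiece,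
    exists_prop]

theorem map_plusGens :
    (Ideal.span (plusGens 𝓕)).map 𝓕.extRees.val.toRingHom = (𝓕.F 1).map (C : A →+* A[T;T⁻¹]) := by
  rw [Ideal.map_span]
  refine le_antisymm (Ideal.span_le.2 ?_) (Ideal.map_le_iff_le_comap.2 fun b hb => ?_)
  · rintro _ ⟨x, ⟨n, hn, a, ha⟩, rfl⟩
    show (x : A[T;T⁻¹]) ∈ (𝓕.F 1).map (C : A →+* A[T;T⁻¹])
    have hx := x.2 n
    rw [ha, coeff_CT, if_pos rfl] at hx
    rw [ha]
    exact Ideal.mul_mem_right _ _ (Ideal.mem_map_of_mem C (𝓕.antitone (by omega : 1 ≤ n.toNat) hx))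
  · rw [Ideal.mem_comap]
    have h : b ∈ 𝓕.F (1 : ℤ).toNat := hb
    rw [show (C b : A[T;T⁻¹]) = C b * T 1 * T (-1) by rw [mul_assoc, ← T_add]; simp]
    exact Ideal.mul_mem_right _ _ (Ideal.subset_span ⟨mono 𝓕 1 b h, ⟨1, one_pos, b, rfl⟩, rfl⟩)

theorem subsingleton_H_F_one [IsNoetherianRing A] [Nontrivial A]
    (hfg : Algebra.FiniteType A 𝓕.rees) (q : ℕ)
    (hG : Subsingleton (LocCoh.H
      ((Ideal.span (plusGens 𝓕)).map (Ideal.Quotient.mk (Ideal.span {𝓕.u}))) q 𝓕.Gr)) :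
    Subsingleton (LocCoh.H (𝓕.F 1) q A) := by
  have := isNoetherianRing_extRees 𝓕 hfg
  let a := extPlus 𝓕
  have h1 : Subsingleton (LocCoh.H a.toIdeal q 𝓕.Gr) := by
    obtain ⟨φ, -⟩ := LC16.ChangeRings.exists_equiv (R := 𝓕.extRees) (R' := 𝓕.Gr) a.toIdeal q 𝓕.Gr
    haveI : Subsingleton (LocCoh.H (a.toIdeal.map (algebraMap 𝓕.extRees 𝓕.Gr)) q 𝓕.Gr) := hG
    exact φ.symm.injective.subsingleton
  have h2 : Subsingleton (LocCoh.H a.toIdeal q 𝓕.extRees) :=
    GrVan.subsingleton_H_of_quotient (extPlus_isPlus 𝓕) (u := 𝓕.u)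
      ⟨1, by simp [coe_u]⟩ (u_mem_nonZeroDivisors 𝓕) q h1
  have : IsLocalization.Away 𝓕.u A[T;T⁻¹] := isLocalization_away_u 𝓕
  have : Module.Flat 𝓕.extRees A[T;T⁻¹] := IsLocalization.flat A[T;T⁻¹] (Submonoid.powers 𝓕.u)
  have : IsNoetherianRing A[T;T⁻¹] :=
    IsLocalization.isNoetherianRing (Submonoid.powers 𝓕.u) A[T;T⁻¹] inferInstance
  obtain ⟨e1⟩ := LC16.FlatBC.exists_equiv A[T;T⁻¹] a.toIdeal q 𝓕.extRees
  have h3 : Subsingleton (LocCoh.H ((𝓕.F 1).map (C : A →+* A[T;T⁻¹])) q A[T;T⁻¹]) := by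
    rw [← map_plusGens]
    exact ((LC15.Hequiv _ q (TensorProduct.AlgebraTensorModule.rid 𝓕.extRees A[T;T⁻¹] A[T;T⁻¹]).symm).trans
      e1.symm).injective.subsingleton
  obtain ⟨e2⟩ := LC16.FlatBC.exists_equiv A[T;T⁻¹] (𝓕.F 1) q A
  have h4 : Subsingleton (A[T;T⁻¹] ⊗[A] LocCoh.H (𝓕.F 1) q A) := by
    have h3' : Subsingleton (LocCoh.H ((𝓕.F 1).map (algebraMap A A[T;T⁻¹])) q A[T;T⁻¹]) := by
      rwa [show algebraMap A A[T;T⁻¹] = C from RingHom.ext fun r => (C_eq_algebraMap r).symm]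
    exact (e2.trans (LC15.Hequiv _ q
      (TensorProduct.AlgebraTensorModule.rid A A[T;T⁻¹] A[T;T⁻¹]))).injective.subsingleton
  by_contra hne
  rw [not_subsingleton_iff_nontrivial] at hne
  exact not_nontrivial_iff_subsingleton.2 h4
    (Module.FaithfullyFlat.lTensor_nontrivial A A[T;T⁻¹] (LocCoh.H (𝓕.F 1) q A))

end Groth.Agent.FiltBl13
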