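import Mathlib.RingTheory.Polynomial.IsIntegral
import Mathlib.RingTheory.Valuation.Basic
import Mathlib.RingTheory.Localization.FractionRing

/-!
# Monomial (Gauss) valuations on a polynomial ring, used for integral closedness of Rees algebras
-/

set_option autoImplicit false

universe u

open Polynomial

namespace Groth.Agent.FiltBl13

/-- the axioms of an additive valuation with values in `ℤ ∪ {∞}` -/
structure QVal {A : Type u} [CommRing A] (θ : A → WithTop ℤ) : Prop where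
  zero : θ 0 = ⊤
  one : θ 1 = 0
  neg : ∀ a, θ (-a) = θ a
  mul : ∀ a b, θ (a * b) = θ a + θ b
  add : ∀ a b, min (θ a) (θ b) ≤ θ (a + b)

namespace QVal

variable {A : Type u} [CommRing A] {θ : A → WithTop ℤ}

theorem le_sum (h : QVal θ) {ι : Type*} (s : Finset ι) (g : ι → A) (x : WithTop ℤ)
    (hg : ∀ i ∈ s, x ≤ θ (g i)) : x ≤ θ (∑ i ∈ s, g i) :=
  Finset.sum_induction g (fun a => x ≤ θ a) (fun a b ha hb => (le_min ha hb).trans (h.add a b))
    (h.zero ▸ le_top) hg

theorem lt_sum (h : QVal θ) {ι : Type*} (s : Finset ι) (g : ι → A) (x : WithTop ℤ) (hx : x < ⊤)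
    (hg : ∀ i ∈ s, x < θ (g i)) : x < θ (∑ i ∈ s, g i) :=
  Finset.sum_induction g (fun a => x < θ a) (fun a b ha hb => (lt_min ha hb).trans_le (h.add a b))
    (h.zero ▸ hx) hg

theorem add_eq (h : QVal θ) {a b : A} (hab : θ a < θ b) : θ (a + b) = θ a := by
  refine le_antisymm ?_ ((min_eq_left hab.le).symm.trans_le (h.add a b))
  by_contra hc
  have h1 := h.add (a + b) (-b)
  rw [add_neg_cancel_right, h.neg] at h1
  exact absurd h1 (not_le.2 (lt_min (not_le.1 hc) hab))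

end QVal

variable {A : Type u} [CommRing A] (θ : A → WithTop ℤ) (p : ℕ)

/-- all coefficients have weight at least `c` -/
def Lw (c : ℤ) (f : A[X]) : Prop := ∀ m : ℕ, ((c + m * p : ℤ) : WithTop ℤ) ≤ θ (f.coeff m)

/-- the weight is exactly `c` -/
def Ex (c : ℤ) (f : A[X]) : Prop :=
  Lw θ p c f ∧ ∃ m₀ : ℕ, θ (f.coeff m₀) = ((c + m₀ * p : ℤ) : WithTop ℤ) ∧
    ∀ m < m₀, ((c + m * p : ℤ) : WithTop ℤ) < θ (f.coeff m)

variable {θ p}

theorem Lw.mul (h : QVal θ) {c d : ℤ} {f g : A[X]} (hf : Lw θ p c f) (hg : Lw θ p d g) :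
    Lw θ p (c + d) (f * g) := by
  intro m
  rw [coeff_mul]
  refine h.le_sum _ _ _ ?_
  rintro ⟨i, j⟩ hij
  rw [Finset.mem_antidiagonal] at hij
  rw [h.mul]
  refine le_trans (le_of_eq ?_) (add_le_add (hf i) (hg j))
  rw [← WithTop.coe_add, ← hij]
  congr 1
  push_cast
  ring

theorem Lw.mono {c d : ℤ} {f : A[X]} (hcd : d ≤ c) (hf : Lw θ p c f) : Lw θ p d f :=
  fun m => le_trans (WithTop.coe_le_coe.2 (by omega)) (hf m)

theorem Lw.one (h : QVal θ) : Lw θ p 0 (1 : A[X]) := by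
  intro m
  rw [coeff_one]
  split_ifs with hm
  · subst hm; simp [h.one]
  · rw [h.zero]; exact le_top

theorem Lw.pow (h : QVal θ) {c : ℤ} {f : A[X]} (hf : Lw θ p c f) :
    ∀ n : ℕ, Lw θ p (n * c) (f ^ n)
  | 0 => by simpa using Lw.one (p := p) h
  | n + 1 => by
    rw [pow_succ, Nat.cast_succ, add_mul, one_mul]
    exact (Lw.pow h hf n).mul h hf

theorem Ex.mul (h : QVal θ) {c d : ℤ} {f g : A[X]} (hf : Ex θ p c f) (hg : Ex θ p d g) :
    Ex θ p (c + d) (f * g) := by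
  classical
  refine ⟨hf.1.mul h hg.1, ?_⟩
  obtain ⟨m, hm, hm'⟩ := hf.2
  obtain ⟨n, hn, hn'⟩ := hg.2
  refine ⟨m + n, ?_, fun k hk => ?_⟩
  · have hmain : θ (f.coeff m * g.coeff n) = ((c + d + ((m + n : ℕ) : ℤ) * p : ℤ) : WithTop ℤ) := by
      rw [h.mul, hm, hn, ← WithTop.coe_add]
      congr 1
      push_cast
      ring
    rw [coeff_mul, ← Finset.add_sum_erase _ _ (show (m, n) ∈ Finset.antidiagonal (m + n) by simp),
      h.add_eq, hmain]
    rw [hmain]
    refine h.lt_sum _ _ _ (WithTop.coe_lt_top _) ?_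
    rintro ⟨i, j⟩ hij
    rw [Finset.mem_erase, Finset.mem_antidiagonal, Ne, Prod.mk.injEq] at hij
    rw [h.mul]
    rcases lt_or_gt_of_ne (show i ≠ m by omega) with hi | hi
    · refine lt_of_eq_of_lt ?_ (WithTop.add_lt_add_of_lt_of_le WithTop.coe_ne_top (hm' i hi) (hg.1 j))
      rw [← WithTop.coe_add, ← hij.2]
      congr 1
      push_cast
      ring
    · refine lt_of_eq_of_lt ?_ (WithTop.add_lt_add_of_le_of_lt WithTop.coe_ne_top (hf.1 i) (hn' j (by omega)))
      rw [← WithTop.coe_add, ← hij.2]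
      congr 1
      push_cast
      ring
  · rw [coeff_mul]
    refine h.lt_sum _ _ _ (WithTop.coe_lt_top _) ?_
    rintro ⟨i, j⟩ hij
    rw [Finset.mem_antidiagonal] at hij
    rw [h.mul]
    by_cases hi : i < m
    · refine lt_of_eq_of_lt ?_ (WithTop.add_lt_add_of_lt_of_le WithTop.coe_ne_top (hm' i hi) (hg.1 j))
      rw [← WithTop.coe_add, ← hij]
      congr 1
      push_cast
      ring
    · refine lt_of_eq_of_lt ?_ (WithTop.add_lt_add_of_le_of_lt WithTop.coe_ne_top (hf.1 i) (hn' j (by omega)))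
      rw [← WithTop.coe_add, ← hij]
      congr 1
      push_cast
      ring

theorem Ex.one (h : QVal θ) : Ex θ p 0 (1 : A[X]) :=
  ⟨Lw.one h, 0, by simp [h.one], fun m hm => absurd hm (Nat.not_lt_zero m)⟩

theorem Ex.pow (h : QVal θ) {c : ℤ} {f : A[X]} (hf : Ex θ p c f) :
    ∀ n : ℕ, Ex θ p (n * c) (f ^ n)
  | 0 => by simpa using Ex.one (p := p) h
  | n + 1 => by
    rw [pow_succ, Nat.cast_succ, add_mul, one_mul]
    exact (Ex.pow h hf n).mul h hf

theorem exists_ex (h : QVal θ) {f : A[X]} (hf : ¬ Lw θ p 0 f) : ∃ c < 0, Ex θ p c f := by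
  classical
  obtain ⟨m₁, hm₁⟩ := not_forall.1 hf
  rw [not_le] at hm₁
  obtain ⟨t₁, ht₁⟩ := WithTop.ne_top_iff_exists.1 (ne_top_of_lt hm₁)
  let S := f.support.filter fun m => θ (f.coeff m) ≠ ⊤
  let d : ℕ → ℤ := fun m => (θ (f.coeff m)).untopD 0 - m * p
  have hS₁ : m₁ ∈ S := Finset.mem_filter.2 ⟨mem_support_iff.2 fun h0 => by
    rw [h0, h.zero] at hm₁; exact absurd hm₁ not_top_lt, ne_top_of_lt hm₁⟩
  have hS : (S.image d).Nonempty := ⟨_, Finset.mem_image_of_mem d hS₁⟩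
  let c := (S.image d).min' hS
  have hc₁ : c ≤ d m₁ := Finset.min'_le _ _ (Finset.mem_image_of_mem d hS₁)
  have hd₁ : d m₁ < 0 := by
    rw [← ht₁, zero_add, WithTop.coe_lt_coe] at hm₁
    simp only [d, ← ht₁, WithTop.untopD_coe]
    omega
  have hT : (S.filter fun m => d m = c).Nonempty := by
    obtain ⟨m, hm, hm'⟩ := Finset.mem_image.1 ((S.image d).min'_mem hS)
    exact ⟨m, Finset.mem_filter.2 ⟨hm, hm'⟩⟩
  let m₀ := (S.filter fun m => d m = c).min' hT
  have key : ∀ m : ℕ, ((c + m * p : ℤ) : WithTop ℤ) ≤ θ (f.coeff m) ∧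
      (m < m₀ → ((c + m * p : ℤ) : WithTop ℤ) < θ (f.coeff m)) := fun m => by
    by_cases hm : θ (f.coeff m) = ⊤
    · rw [hm]; exact ⟨le_top, fun _ => WithTop.coe_lt_top _⟩
    obtain ⟨t, ht⟩ := WithTop.ne_top_iff_exists.1 hm
    have hmS : m ∈ S := Finset.mem_filter.2
      ⟨mem_support_iff.2 fun h0 => hm (by rw [h0, h.zero]), hm⟩
    have hcm : c ≤ d m := Finset.min'_le _ _ (Finset.mem_image_of_mem d hmS)
    have hdm : d m = t - m * p := by simp only [d, ← ht, WithTop.untopD_coe]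
    rw [← ht, WithTop.coe_le_coe, WithTop.coe_lt_coe]
    refine ⟨by omega, fun hlt => ?_⟩
    rcases hcm.lt_or_eq with h1 | h1
    · omega
    · exact absurd (Finset.min'_le _ _ (Finset.mem_filter.2 ⟨hmS, h1.symm⟩)) (not_le.2 hlt)
  refine ⟨c, by omega, fun m => (key m).1, m₀, ?_, fun m => (key m).2⟩
  obtain ⟨hm₀S, hm₀⟩ := Finset.mem_filter.1 ((S.filter fun m => d m = c).min'_mem hT)
  obtain ⟨t, ht⟩ := WithTop.ne_top_iff_exists.1 (Finset.mem_filter.1 hm₀S).2
  have hd₀ : d m₀ = t - m₀ * p := by simp only [d, m₀, ← ht, WithTop.untopD_coe]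
  have hm₀' : d m₀ = c := hm₀
  show θ (f.coeff m₀) = _
  rw [← ht, WithTop.coe_inj]
  omega

/-- a polynomial integral over polynomials of nonnegative weight has nonnegative weight -/
theorem lw_of_integral (h : QVal θ) (f : A[X]) {N : ℕ} (a : ℕ → A[X])
    (ha : ∀ i, Lw θ p 0 (a i)) (hrel : f ^ N + ∑ i ∈ Finset.range N, a i * f ^ i = 0) :
    Lw θ p 0 f := by
  by_contra hf
  obtain ⟨c, hc, hex⟩ := exists_ex h hf
  obtain ⟨-, m₀, hm₀, -⟩ := hex.pow h N
  have hge : ((N * c + 1 + m₀ * p : ℤ) : WithTop ℤ) ≤ θ ((f ^ N).coeff m₀) := by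
    rw [eq_neg_of_add_eq_zero_left hrel, coeff_neg, h.neg, finsetSum_coeff]
    refine h.le_sum _ _ _ fun i hi => ?_
    rw [Finset.mem_range] at hi
    have hle : (N : ℤ) * c + 1 ≤ 0 + i * c := by
      have h1 : (N : ℤ) * c ≤ ((i : ℤ) + 1) * c :=
        mul_le_mul_of_nonpos_right (by exact_mod_cast hi) hc.le
      rw [add_mul, one_mul] at h1
      omega
    exact (((ha i).mul h (hex.1.pow h i)).mono hle) m₀
  rw [hm₀, WithTop.coe_le_coe] at hge
  omega

/-- a subalgebra of `A[X]` containing all polynomials integral over it is integrally closed -/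
theorem isIntegrallyClosed_subalgebra [IsDomain A] [IsIntegrallyClosed A]
    (R : Subalgebra A A[X])
    (h : ∀ (f : A[X]) (N : ℕ) (a : ℕ → A[X]), (∀ i, a i ∈ R) →
      f ^ N + ∑ i ∈ Finset.range N, a i * f ^ i = 0 → f ∈ R) : IsIntegrallyClosed R := by
  rw [isIntegrallyClosed_iff (FractionRing R)]
  intro z hz
  let L := FractionRing A[X]
  let φ : R →+* L := (algebraMap A[X] L).comp R.val.toRingHom
  have hφ : Function.Injective φ :=
    (IsFractionRing.injective A[X] L).comp Subtype.val_injective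
  let ψ : FractionRing R →+* L := IsFractionRing.lift hφ
  have hψ : ∀ r, ψ (algebraMap R (FractionRing R) r) = algebraMap A[X] L (r : A[X]) :=
    fun r => IsFractionRing.lift_algebraMap hφ r
  obtain ⟨P, hP, hPz⟩ := hz
  have hint : IsIntegral A[X] (ψ z) := by
    refine ⟨P.map R.val.toRingHom, hP.map _, ?_⟩
    rw [eval₂_map]
    have h1 := congrArg ψ hPz
    rw [map_zero, hom_eval₂] at h1
    rwa [show ψ.comp (algebraMap R (FractionRing R)) = (algebraMap A[X] L).comp R.val.toRingHom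
      from RingHom.ext hψ] at h1
  obtain ⟨f, hf⟩ := IsIntegrallyClosed.isIntegral_iff.1 hint
  have hrel : f ^ P.natDegree +
      ∑ i ∈ Finset.range P.natDegree, ((P.coeff i : R) : A[X]) * f ^ i = 0 := by
    apply IsFractionRing.injective A[X] L
    rw [map_zero, ← map_zero ψ, ← hPz, hom_eval₂, eval₂_eq_sum_range, Finset.sum_range_succ,
      hP.coeff_natDegree, map_one, one_mul, map_add, map_sum, map_pow, hf, add_comm]
    refine congrArg₂ _ (Finset.sum_congr rfl fun i _ => ?_) rfl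
    rw [map_mul, map_pow, hf, RingHom.comp_apply, hψ]
  refine ⟨⟨f, h f _ _ (fun i => (P.coeff i).2) hrel⟩, ψ.injective ?_⟩
  rw [hψ]
  exact hf

end Groth.Agent.FiltBl13
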