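import Groth.Agent.FiltBl13.GradedClosure
import Mathlib.RingTheory.GradedAlgebra.HomogeneousLocalization

/-!
A graded domain with a homogeneous unit of degree one at a homogeneous prime: normality of the
degree zero homogeneous localization gives normality of the graded ring at that prime.
-/

set_option autoImplicit false

universe u

open Polynomial

namespace Groth.Agent.FiltBl13

variable {G : Type u} [CommRing G] [IsDomain G] {σ : Type*} [SetLike σ G] [AddSubgroupClass σ G]
  (𝒢 : ℕ → σ) [GradedRing 𝒢]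
  (L : Type u) [Field L] [Algebra G L] [IsFractionRing G L]

theorem exists_multiplier (p : Ideal G) [p.IsPrime]
    [IsDomain (HomogeneousLocalization.AtPrime 𝒢 p)]
    [IsIntegrallyClosed (HomogeneousLocalization.AtPrime 𝒢 p)]
    {m : ℕ} {a b : G} (ha : a ∈ 𝒢 (m + 1)) (hb : b ∈ 𝒢 m) (hap : a ∉ p) (hbp : b ∉ p)
    (z : L) (hz : IsIntegral G z) {i e : ℕ} {h g : G} (h0 : h ≠ 0) (he : h ∈ 𝒢 e) (hg : g ∈ 𝒢 (i + e))
    (hgz : algebraMap G L h * z = algebraMap G L g) :
    ∃ t ∉ p, ∃ g', algebraMap G L t * z = algebraMap G L g' := by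
  let B := HomogeneousLocalization.AtPrime 𝒢 p
  have hunit : ∀ y : p.primeCompl, IsUnit (algebraMap G L y) := fun y =>
    isUnit_iff_ne_zero.2 ((map_ne_zero_iff _ (IsFractionRing.injective G L)).2
      fun hy => y.2 (hy ▸ zero_mem p))
  let lift : Localization.AtPrime p →+* L :=
    IsLocalization.lift (M := p.primeCompl) (g := algebraMap G L) hunit
  let β : B →+* L := lift.comp (algebraMap B (Localization.AtPrime p))
  have hlift : Function.Injective lift := by
    rw [IsLocalization.lift_injective_iff]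
    exact fun x y => ⟨fun h => congrArg _ (IsLocalization.injective (Localization.AtPrime p)
      p.primeCompl_le_nonZeroDivisors h), fun h => congrArg _ (IsFractionRing.injective G L h)⟩
  have hβi : Function.Injective β := fun x y h =>
    HomogeneousLocalization.val_injective _ (by
      have := hlift h
      rwa [HomogeneousLocalization.algebraMap_apply, HomogeneousLocalization.algebraMap_apply] at this)
  have hβ : ∀ {n : ℕ} {x y : G} (hx : x ∈ 𝒢 n) (hy : y ∈ 𝒢 n) (hyp : y ∉ p),
      β (HomogeneousLocalization.mk ⟨n, ⟨x, hx⟩, ⟨y, hy⟩, hyp⟩) = algebraMap G L x / algebraMap G L y := by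
    intro n x y hx hy hyp
    show lift (algebraMap B _ _) = _
    rw [HomogeneousLocalization.algebraMap_apply, HomogeneousLocalization.val_mk, Localization.mk_eq_mk', eq_div_iff ((hunit ⟨y, hyp⟩).ne_zero)]
    show lift (IsLocalization.mk' _ x ⟨y, hyp⟩) * algebraMap G L y = _
    rw [← IsLocalization.lift_eq (M := p.primeCompl) (S := Localization.AtPrime p) hunit y,
      ← IsLocalization.lift_eq (M := p.primeCompl) (S := Localization.AtPrime p) hunit x, ← map_mul]
    exact congrArg lift (IsLocalization.mk'_spec _ x ⟨y, hyp⟩)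
  have hpow : ∀ {x : G} (n : ℕ), x ∉ p → x ^ n ∉ p :=
    fun n hx h => hx (‹p.IsPrime›.mem_of_pow_mem n h)
  -- dehomogenisation
  let ε : L := algebraMap G L b / algebraMap G L a
  let φ : G →+* L := (eval₂RingHom (algebraMap G L) ε).comp (toPoly 𝒢)
  have hφ : ∀ {n : ℕ} {x : G}, x ∈ 𝒢 n → φ x = algebraMap G L x * ε ^ n := by
    intro n x hx
    show eval₂ _ _ (toPoly 𝒢 x) = _
    rw [toPoly_of_mem 𝒢 hx, eval₂_monomial]
  have hmemdeg : ∀ {n : ℕ} {x : G}, x ∈ 𝒢 n →
      x * b ^ n ∈ 𝒢 (n * (m + 1)) ∧ a ^ n ∈ 𝒢 (n * (m + 1)) := by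
    intro n x hx
    refine ⟨coe_mul_mem 𝒢 (by ring : n + n * m = n * (m + 1)) hx ?_, ?_⟩
    · simpa using SetLike.pow_mem_graded n hb
    · simpa using SetLike.pow_mem_graded n ha
  have hrange : ∀ x, φ x ∈ β.range := by
    intro x
    classical
    rw [← DirectSum.sum_support_decompose 𝒢 x, map_sum]
    refine sum_mem fun n _ => ?_
    obtain ⟨h1, h2⟩ := hmemdeg (DirectSum.decompose 𝒢 x n).2
    refine ⟨HomogeneousLocalization.mk ⟨_, ⟨_, h1⟩, ⟨_, h2⟩, hpow n hap⟩, ?_⟩
    rw [hβ, hφ (DirectSum.decompose 𝒢 x n).2, map_mul, map_pow, map_pow, div_pow, mul_div_assoc]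
  have hane : algebraMap G L a ≠ 0 := (hunit ⟨a, hap⟩).ne_zero
  have hbne : algebraMap G L b ≠ 0 := (hunit ⟨b, hbp⟩).ne_zero
  have hεne : ε ≠ 0 := div_ne_zero hbne hane
  have hh : φ h ≠ 0 := by
    rw [hφ he]
    exact mul_ne_zero ((map_ne_zero_iff _ (IsFractionRing.injective G L)).2 h0) (pow_ne_zero _ hεne)
  -- the dehomogenised element is integral over the degree zero ring
  let _ : Algebra B L := β.toAlgebra
  let z' : L := φ g / φ h
  have hzint : IsIntegral B z' := by
    obtain ⟨f, hf, hfz⟩ := hz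
    choose ψ₀ hψ using hrange
    let ψ : G →+* B :=
      { toFun := ψ₀
        map_one' := hβi (by rw [hψ, map_one, map_one])
        map_mul' := fun x y => hβi (by rw [hψ, map_mul, map_mul, hψ, hψ])
        map_zero' := hβi (by rw [hψ, map_zero, map_zero])
        map_add' := fun x y => hβi (by rw [hψ, map_add, map_add, hψ, hψ]) }
    refine ⟨f.map ψ, hf.map ψ, ?_⟩
    rw [eval₂_map, show (algebraMap B L).comp ψ = φ from RingHom.ext hψ]
    -- homogenise: multiply by `h ^ n`
    have hz' : eval₂ (algebraMap G L) (algebraMap G L g / algebraMap G L h) f = 0 := by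
      rw [← hgz, mul_div_cancel_left₀ z ((map_ne_zero_iff _ (IsFractionRing.injective G L)).2 h0)]
      exact hfz
    let n := f.natDegree
    have key : ∀ ν : G →+* L, ν h ≠ 0 →
        eval₂ ν (ν g / ν h) f * ν h ^ n =
          ν (∑ k ∈ Finset.range (n + 1), f.coeff k * g ^ k * h ^ (n - k)) := by
      intro ν hν
      rw [eval₂_eq_sum_range, Finset.sum_mul, map_sum]
      refine Finset.sum_congr rfl fun k hk => ?_
      obtain ⟨d, hd⟩ := Nat.exists_eq_add_of_le (Finset.mem_range_succ_iff.1 hk)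
      rw [map_mul, map_mul, map_pow, map_pow, show n - k = d by omega, hd, pow_add, div_pow]
      field_simp
    have hsum : (∑ k ∈ Finset.range (n + 1), f.coeff k * g ^ k * h ^ (n - k)) = 0 := by
      apply IsFractionRing.injective G L
      rw [← key _ ((map_ne_zero_iff _ (IsFractionRing.injective G L)).2 h0), hz', zero_mul, map_zero]
    have := key φ hh
    rw [hsum, map_zero, mul_eq_zero, or_iff_left (pow_ne_zero _ hh)] at this
    exact this
  obtain ⟨y, hy⟩ : ∃ y : B, β y = z' := by
    let K := FractionRing B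
    let ι : K →+* L := IsFractionRing.lift hβi
    obtain ⟨bg, hbg⟩ := hrange g
    obtain ⟨bh, hbh⟩ := hrange h
    let _ : Algebra K L := ι.toAlgebra
    have : IsScalarTower B K L := IsScalarTower.of_algebraMap_eq fun x =>
      (IsFractionRing.lift_algebraMap hβi x).symm
    let y₀ : K := algebraMap B K bg / algebraMap B K bh
    have hy₀ : algebraMap K L y₀ = z' := by
      rw [map_div₀, ← IsScalarTower.algebraMap_apply, ← IsScalarTower.algebraMap_apply]
      show β bg / β bh = _
      rw [hbg, hbh]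
    have hy₀int : IsIntegral B y₀ :=
      (isIntegral_algebraMap_iff (algebraMap K L).injective).1 (hy₀.symm ▸ hzint)
    obtain ⟨y, hy⟩ := IsIntegrallyClosed.isIntegral_iff.1 hy₀int
    exact ⟨y, by rw [← hy₀, ← hy, ← IsScalarTower.algebraMap_apply]; rfl⟩
  obtain ⟨⟨r, ⟨c, hc⟩, ⟨s, hs⟩, hsp⟩, rfl⟩ := HomogeneousLocalization.mk_surjective y
  rw [hβ hc hs hsp] at hy
  refine ⟨b ^ i * s, fun hm => (‹p.IsPrime›.mem_or_mem hm).elim (hpow i hbp) hsp, c * a ^ i, ?_⟩
  have hs0 : algebraMap G L s ≠ 0 := (hunit ⟨s, hsp⟩).ne_zero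
  have hhne : algebraMap G L h ≠ 0 := (map_ne_zero_iff _ (IsFractionRing.injective G L)).2 h0
  have hz2 : z' = z * ε ^ i := by
    show φ g / φ h = _
    rw [hφ hg, hφ he, ← hgz, pow_add]
    field_simp
  rw [hz2, div_eq_iff hs0] at hy
  have hε : ε ^ i * algebraMap G L a ^ i = algebraMap G L b ^ i := by
    rw [← mul_pow, div_mul_cancel₀ _ hane]
  rw [map_mul, map_mul, map_pow, map_pow, hy]
  linear_combination (-(z * algebraMap G L s)) * hε

theorem conductorOf_not_le_of_unit_deg_one (p : Ideal G) [p.IsPrime]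
    [IsDomain (HomogeneousLocalization.AtPrime 𝒢 p)]
    [IsIntegrallyClosed (HomogeneousLocalization.AtPrime 𝒢 p)]
    [Module.Finite G (integralClosure G L)]
    {m : ℕ} {a b : G} (ha : a ∈ 𝒢 (m + 1)) (hb : b ∈ 𝒢 m) (hap : a ∉ p) (hbp : b ∉ p) :
    ¬ conductorOf (G := G) L ≤ p := by
  classical
  have key : ∀ y : integralClosure G L, ∃ t ∉ p, ∃ g', algebraMap G L t * y = algebraMap G L g' := by
    rintro ⟨z, hz⟩
    obtain ⟨w, rfl, hw⟩ := exists_homog_sum 𝒢 L z hz
    have hw' : ∀ i, ∃ t : p.primeCompl, ∃ g', algebraMap G L t * w.coeff i = algebraMap G L g' := by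
      intro i
      obtain ⟨hint, e, h, g, h0, he, hge, hgw⟩ := hw i
      obtain ⟨t, ht, g', hg'⟩ := exists_multiplier 𝒢 L p ha hb hap hbp _ hint h0 he hge hgw
      exact ⟨⟨t, ht⟩, g', hg'⟩
    choose t g' hg' using hw'
    let N := Finset.range (w.natDegree + 1)
    refine ⟨(∏ i ∈ N, t i : p.primeCompl), (∏ i ∈ N, t i : p.primeCompl).2,
      ∑ i ∈ N, (∏ j ∈ N.erase i, (t j : G)) * g' i, ?_⟩
    show _ * w.eval 1 = _
    rw [eval_eq_sum_range, Finset.mul_sum, map_sum]
    refine Finset.sum_congr rfl fun i hi => ?_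
    rw [one_pow, mul_one, Submonoid.coe_finsetProd, ← Finset.prod_erase_mul N _ hi, map_mul, map_mul,
      mul_assoc, hg']
  choose s hsp g' hg using key
  obtain ⟨T, hT⟩ := (Module.Finite.fg_top : (⊤ : Submodule G (integralClosure G L)).FG)
  refine fun hle => ?_
  refine absurd (hle (?_ : ∏ z ∈ T, s z ∈ conductorOf (G := G) L)) fun hm => ?_
  · rw [mem_conductorOf]
    intro z hz
    suffices ∀ y ∈ Submodule.span G (T : Set (integralClosure G L)),
        ∃ g, algebraMap G L (∏ z ∈ T, s z) * (y : L) = algebraMap G L g from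
      this ⟨z, hz⟩ (hT ▸ Submodule.mem_top)
    intro y hy
    induction hy using Submodule.span_induction with
    | mem y hy =>
      refine ⟨(∏ x ∈ T.erase y, s x) * g' y, ?_⟩
      rw [← Finset.prod_erase_mul T _ hy, map_mul, map_mul, mul_assoc, hg]
    | zero => exact ⟨0, by simp⟩
    | add x y _ _ hx hy =>
      obtain ⟨u, hu⟩ := hx
      obtain ⟨v, hv⟩ := hy
      exact ⟨u + v, by rw [map_add, ← hu, ← hv]; push_cast; ring⟩
    | smul c x _ hx =>
      obtain ⟨u, hu⟩ := hx
      refine ⟨c * u, ?_⟩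
      rw [map_mul, ← hu, show ((c • x : integralClosure G L) : L) = algebraMap G L c * x from
        Algebra.smul_def c (x : L)]
      ring
  · obtain ⟨x, -, hx⟩ := ‹p.IsPrime›.prod_mem_iff.1 hm
    exact hsp x hx

end Groth.Agent.FiltBl13
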