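import Groth.Agent.FiltBl13.ExtRees

/-!
# The Rees algebra inside the extended Rees algebra
-/

set_option autoImplicit false

universe u

open LaurentPolynomial

namespace Groth.Agent.FiltBl13

open FiltBl Groth.Agent.EGA4Alg4

theorem dep_eq_zero_iff {B : Type u} [CommRing B] [IsNoetherianRing B] (p : Ideal B) [p.IsPrime] :
    dep p = 0 ↔ p ∈ associatedPrimes B B := by
  rw [← CAlg1.depth_atPrime_eq_zero_iff (M := B) p, CAlg1.depth_locSelf]

/-- if depth is at least two along `V(I)`, then `(x) : I = (x)` -/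
theorem mem_span_of_annihilated {B : Type u} [CommRing B] [IsNoetherianRing B] {x : B}
    (hx : x ∈ nonZeroDivisors B) (I : Ideal B)
    (hdep : ∀ (p : Ideal B) [p.IsPrime], I ≤ p → 2 ≤ dep p) (f : B)
    (h : ∀ g ∈ I, g * f ∈ Ideal.span {x}) : f ∈ Ideal.span {x} := by
  by_contra hf
  have hf0 : Ideal.Quotient.mk (Ideal.span {x}) f ≠ 0 := fun h0 =>
    hf (Ideal.Quotient.eq_zero_iff_mem.1 h0)
  obtain ⟨q, hq, hle⟩ := exists_le_isAssociatedPrime_of_isNoetherianRing (R := B ⧸ Ideal.span {x})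
    (M := B ⧸ Ideal.span {x}) _ hf0
  have := hq.isPrime
  obtain ⟨h1, -⟩ := quotient_invariants hx q _ rfl
  have hI : I ≤ q.comap (Ideal.Quotient.mk (Ideal.span {x})) := fun g hg => hle (by
    rw [Submodule.mem_colon_singleton, Submodule.mem_bot, smul_eq_mul, ← map_mul,
      Ideal.Quotient.eq_zero_iff_mem]
    exact h g hg)
  have h2 := hdep _ hI
  rw [h1, (dep_eq_zero_iff q).2 hq] at h2
  exact absurd h2 (by simp)

theorem two_le_dep_of {B : Type u} [CommRing B] [IsNoetherianRing B] {x : B}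
    (hx : x ∈ nonZeroDivisors B) (P : Ideal B) [P.IsPrime] (hxP : x ∈ P)
    (h : ∀ f, (∀ g ∈ P, g * f ∈ Ideal.span {x}) → f ∈ Ideal.span {x}) : 2 ≤ dep P := by
  have hle : RingHom.ker (Ideal.Quotient.mk (Ideal.span {x})) ≤ P := by
    rw [Ideal.mk_ker]
    exact (Ideal.span_singleton_le_iff_mem _).2 hxP
  let q := P.map (Ideal.Quotient.mk (Ideal.span {x}))
  have : q.IsPrime := Ideal.map_isPrime_of_surjective Ideal.Quotient.mk_surjective hle
  have hc : q.comap (Ideal.Quotient.mk (Ideal.span {x})) = P := by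
    rw [Ideal.comap_map_of_surjective _ Ideal.Quotient.mk_surjective, ← RingHom.ker_eq_comap_bot,
      sup_eq_left.2 hle]
  obtain ⟨h1, -⟩ := quotient_invariants hx q P hc
  rw [h1, show (2 : ℕ∞) = 1 + 1 by norm_num]
  refine add_le_add ?_ le_rfl
  rw [Order.one_le_iff_pos, pos_iff_ne_zero]
  intro h0
  obtain ⟨hq, z, hz⟩ := isAssociatedPrime_iff.1 ((dep_eq_zero_iff q).1 h0)
  obtain ⟨f, rfl⟩ := Ideal.Quotient.mk_surjective z
  refine hq.ne_top ?_
  rw [hz, Ideal.eq_top_iff_one, Submodule.mem_colon_singleton, one_smul, Submodule.mem_bot,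
    Ideal.Quotient.eq_zero_iff_mem]
  refine h f fun g hg => ?_
  have h2 : Ideal.Quotient.mk (Ideal.span {x}) g ∈ q := Ideal.mem_map_of_mem _ hg
  rw [hz, Submodule.mem_colon_singleton, Submodule.mem_bot, smul_eq_mul, ← map_mul,
    Ideal.Quotient.eq_zero_iff_mem] at h2
  exact h2

/-- an injective map inducing an isomorphism after inverting `f` gives the same local rings
off `V(f)` -/
theorem exists_prime_equiv {R S : Type u} [CommRing R] [CommRing S] (ι : R →+* S)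
    (hι : Function.Injective ι) (f : R) (hf : ∀ z : S, ∃ (k : ℕ) (r : R), ι f ^ k * z = ι r)
    (P : Ideal R) [P.IsPrime] (hP : f ∉ P) :
    ∃ (P' : Ideal S) (_ : P'.IsPrime),
      Nonempty (Localization.AtPrime P ≃+* Localization.AtPrime P') := by
  let B := Localization.Away (ι f)
  let _ : Algebra R B := ((algebraMap S B).comp ι).toAlgebra
  have hB : IsLocalization.Away f B := by
    refine ⟨⟨?_, ?_, ?_⟩⟩
    · rintro ⟨y, n, rfl⟩
      show IsUnit (algebraMap S B (ι (f ^ n)))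
      rw [map_pow]
      exact IsLocalization.map_units B (⟨ι f ^ n, n, rfl⟩ : Submonoid.powers (ι f))
    · intro z
      obtain ⟨⟨s, ⟨_, m, rfl⟩⟩, hz⟩ := IsLocalization.surj (Submonoid.powers (ι f)) z
      obtain ⟨k, r, hr⟩ := hf s
      refine ⟨⟨r, ⟨f ^ (m + k), m + k, rfl⟩⟩, ?_⟩
      show z * algebraMap S B (ι (f ^ (m + k))) = algebraMap S B (ι r)
      rw [← hr, map_pow, pow_add, map_mul, map_mul, ← mul_assoc, hz, mul_comm]
    · intro x y h
      obtain ⟨⟨_, k, rfl⟩, hc⟩ := IsLocalization.exists_of_eq (M := Submonoid.powers (ι f))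
        (show algebraMap S B (ι x) = algebraMap S B (ι y) from h)
      refine ⟨⟨f ^ k, k, rfl⟩, hι ?_⟩
      simpa [map_mul, map_pow] using hc
  have hdisj : Disjoint ((Submonoid.powers f : Submonoid R) : Set R) (P : Set R) :=
    (Ideal.disjoint_powers_iff_notMem_of_isPrime _).2 hP
  let Q : Ideal B := P.map (algebraMap R B)
  have : Q.IsPrime := IsLocalization.isPrime_of_isPrime_disjoint (Submonoid.powers f) _ P ‹_› hdisj
  obtain ⟨e1⟩ := nonempty_locEquiv (Submonoid.powers f) Q P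
    (IsLocalization.under_map_of_isPrime_disjoint (Submonoid.powers f) _ ‹_› hdisj)
  obtain ⟨e2⟩ := nonempty_locEquiv (Submonoid.powers (ι f)) Q (Q.comap (algebraMap S B)) rfl
  exact ⟨_, inferInstance, ⟨e1.trans e2.symm⟩⟩

variable {A : Type u} [CommRing A] (𝓕 : IdealFiltration A)

theorem exists_mem_F_one_nonZeroDivisor [IsNoetherianRing A] [Nontrivial A]
    (hS2 : LocCoh.HasSk 2 A A) (hht : 2 ≤ (𝓕.F 1).height) :
    ∃ x ∈ 𝓕.F 1, x ∈ nonZeroDivisors A := by
  by_contra hno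
  push Not at hno
  obtain ⟨p, hp, hle⟩ := exists_le_assoc_of_forall_not_regular (M := A) (𝓕.F 1) fun x hx hreg =>
    hno x hx (mem_nonZeroDivisors_iff_right.2 fun a ha =>
      hreg (show x * a = x * 0 by rw [mul_zero, mul_comm, ha]))
  have := hp.isPrime
  have h0 := (dep_eq_zero_iff p).2 hp
  have h1 := (CAlg1.hasSk_self_iff 2).1 hS2 p
  rw [show LocCoh.depth (Localization.AtPrime p) (Localization.AtPrime p) = dep p from rfl, h0] at h1
  rcases min_le_iff.1 h1 with h2 | h2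
  · exact absurd h2 (by simp)
  · exact absurd (hht.trans ((Ideal.height_mono hle).trans h2)) (by simp)

theorem incl_injective : Function.Injective (incl 𝓕) := fun f g h =>
  Subtype.ext (Polynomial.toLaurent_injective (congrArg (fun y : 𝓕.extRees => (y : A[T;T⁻¹])) h))

/-- the monomial `a X ^ n` of the Rees algebra -/
noncomputable def rmono (n : ℕ) (a : A) (h : a ∈ 𝓕.F n) : 𝓕.rees :=
  ⟨Polynomial.monomial n a, monomial_mem_rees 𝓕 h⟩

@[simp] theorem coe_rmono (n : ℕ) (a : A) (h : a ∈ 𝓕.F n) :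
    ((rmono 𝓕 n a h : 𝓕.rees) : Polynomial A) = Polynomial.monomial n a := rfl

theorem incl_rmono (n : ℕ) (a : A) (h : a ∈ 𝓕.F n) :
    incl 𝓕 (rmono 𝓕 n a h) = mono 𝓕 (n : ℤ) a h := by
  apply Subtype.ext
  rw [coe_incl, coe_rmono, coe_mono, ← Polynomial.C_mul_X_pow_eq_monomial,
    Polynomial.toLaurent_C_mul_X_pow]

theorem sum_rmono (f : 𝓕.rees) :
    ∑ n ∈ (f : Polynomial A).support, rmono 𝓕 n ((f : Polynomial A).coeff n) (f.2 n) = f := by
  apply Subtype.ext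
  rw [AddSubmonoidClass.coe_finsetSum]
  exact ((f : Polynomial A).as_sum_support).symm

theorem coeff_toLaurent (p : Polynomial A) (k : ℕ) :
    (Polynomial.toLaurent p).coeff (k : ℤ) = p.coeff k := by
  rw [Polynomial.toLaurent_apply]
  show (Finsupp.mapDomain (fun k : ℕ => (k : ℤ)) p.toFinsupp.coeff) (k : ℤ) = _
  rw [Finsupp.mapDomain_apply (fun a b h => by exact_mod_cast h)]
  rfl

theorem exists_incl_eq (g : 𝓕.extRees) (hg : ∀ n : ℤ, n < 0 → (g : A[T;T⁻¹]).coeff n = 0) :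
    ∃ g₀ : 𝓕.rees, incl 𝓕 g₀ = g := by
  have h : g ∈ (incl 𝓕).range := by
    rw [← sum_mono 𝓕 g]
    refine Subalgebra.sum_mem _ fun n hn => ?_
    have h0 : 0 ≤ n := le_of_not_gt fun h => (Finsupp.mem_support_iff.1 hn) (hg n h)
    obtain ⟨k, rfl⟩ := Int.eq_ofNat_of_zero_le h0
    exact ⟨rmono 𝓕 k _ (g.2 (k : ℤ)), incl_rmono 𝓕 _ _ _⟩
  exact h

theorem pow_mem_F {a : A} {n : ℕ} (h : a ∈ 𝓕.F n) (k : ℕ) : a ^ k ∈ 𝓕.F (n * k) := by
  induction k with
  | zero => rw [mul_zero, 𝓕.zero_eq]; exact Submodule.mem_top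
  | succ k ih => rw [pow_succ, mul_add, mul_one]; exact 𝓕.mul_le _ _ (Ideal.mul_mem_mul ih h)

theorem exists_pow_mul_eq_incl {n : ℕ} (hn : 0 < n) {a : A} (h : a ∈ 𝓕.F n) (z : 𝓕.extRees) :
    ∃ (k : ℕ) (r : 𝓕.rees), incl 𝓕 (rmono 𝓕 n a h) ^ k * z = incl 𝓕 r := by
  let K := (z : A[T;T⁻¹]).coeff.support.sup fun i => (-i).toNat
  suffices hg : ∀ m : ℤ, m < 0 →
      ((incl 𝓕 (rmono 𝓕 n a h) ^ K * z : 𝓕.extRees) : A[T;T⁻¹]).coeff m = 0 by
    obtain ⟨r, hr⟩ := exists_incl_eq 𝓕 _ hg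
    exact ⟨K, r, hr.symm⟩
  intro m hm
  rw [Subalgebra.coe_mul, SubmonoidClass.coe_pow, incl_rmono, coe_mono, mul_pow, T_pow, ← map_pow,
    mul_assoc, T_mul, ← smul_eq_C_mul, AddMonoidAlgebra.coeff_smul, Finsupp.smul_apply, coeff_mul_T]
  by_cases h0 : (z : A[T;T⁻¹]).coeff (m - (K : ℤ) * (n : ℤ)) = 0
  · rw [h0, smul_zero]
  · have h1 : (-(m - (K : ℤ) * (n : ℤ))).toNat ≤ K :=
      Finset.le_sup (f := fun i : ℤ => (-i).toNat) (Finsupp.mem_support_iff.2 h0)
    have h2 : (K : ℤ) ≤ (K : ℤ) * (n : ℤ) := le_mul_of_one_le_right (by positivity) (by exact_mod_cast hn)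
    omega

theorem exists_pow_mul_eq_val {s : A} (hs : s ∈ 𝓕.F 1) (z : Polynomial A) :
    ∃ (k : ℕ) (r : 𝓕.rees), 𝓕.rees.val (algebraMap A 𝓕.rees s) ^ k * z = 𝓕.rees.val r := by
  refine ⟨z.natDegree, ⟨_, ?_⟩, rfl⟩
  rw [AlgHom.commutes, Polynomial.algebraMap_apply, Algebra.algebraMap_self, RingHom.id_apply,
    ← Polynomial.C_pow]
  intro m
  show (Polynomial.C (s ^ z.natDegree) * z).coeff m ∈ 𝓕.F m
  rw [Polynomial.coeff_C_mul]
  by_cases hz : z.coeff m = 0
  · rw [hz, mul_zero]; exact zero_mem _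
  · refine Ideal.mul_mem_right _ _ (𝓕.antitone ?_ (pow_mem_F 𝓕 hs z.natDegree))
    rw [one_mul]
    exact Polynomial.le_natDegree_of_ne_zero hz

end Groth.Agent.FiltBl13
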