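import Groth.Agent.FiltBl13.TwistGen
import Groth.Agent.FiltBl13.GradedNormal
import Groth.Agent.FiltBl13.Rees
import Groth.Agent.CAlg6.FiniteClosure
import Groth.Prelude.Def_AssocGr
import Mathlib.AlgebraicGeometry.ProjectiveSpectrum.Basic
import Mathlib.GroupTheory.Archimedean

/-!
`Ḡ/G` has finite length when `E = Proj G` is normal and `O_X(1)` is invertible.
-/

set_option autoImplicit false

universe u

open FiltBl AlgebraicGeometry AssocGr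

namespace Groth.Agent.FiltBl13

variable {A : Type u} [CommRing A] (𝓕 : IdealFiltration A)

theorem rmono_mem_deg (n : ℕ) (a : A) (h : a ∈ 𝓕.F n) : rmono 𝓕 n a h ∈ Rees.deg 𝓕.rees n := by
  rw [Rees.mem_deg_iff]
  intro m hm
  rw [coe_rmono, Polynomial.coeff_monomial, if_neg (Ne.symm hm)]

theorem exists_eq_rmono {n : ℕ} {f : 𝓕.rees} (hf : f ∈ Rees.deg 𝓕.rees n) :
    ∃ (a : A) (ha : a ∈ 𝓕.F n), f = rmono 𝓕 n a ha := by
  refine ⟨(f : Polynomial A).coeff n, f.2 n, Subtype.ext (Polynomial.ext fun m => ?_)⟩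
  rw [coe_rmono, Polynomial.coeff_monomial]
  split_ifs with h
  · rw [h]
  · exact hf m (Ne.symm h)

theorem mul_mem_F {a b : A} {m n : ℕ} (ha : a ∈ 𝓕.F m) (hb : b ∈ 𝓕.F n) : a * b ∈ 𝓕.F (m + n) :=
  𝓕.mul_le m n (Ideal.mul_mem_mul ha hb)

theorem rmono_mul {a b : A} {m n : ℕ} (ha : a ∈ 𝓕.F m) (hb : b ∈ 𝓕.F n) :
    rmono 𝓕 m a ha * rmono 𝓕 n b hb = rmono 𝓕 (m + n) (a * b) (mul_mem_F 𝓕 ha hb) :=
  Subtype.ext (by rw [Subalgebra.coe_mul, coe_rmono, coe_rmono, coe_rmono, Polynomial.monomial_mul_monomial])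

theorem rmono_congr {a b : A} {m n : ℕ} (h1 : m = n) (h2 : a = b) (ha : a ∈ 𝓕.F m) (hb : b ∈ 𝓕.F n) :
    rmono 𝓕 m a ha = rmono 𝓕 n b hb := by subst h1; subst h2; rfl

theorem mkG_rmono_eq_zero_iff {a : A} {n : ℕ} (ha : a ∈ 𝓕.F n) :
    mkG 𝓕 (rmono 𝓕 n a ha) = 0 ↔ a ∈ 𝓕.F (n + 1) := by
  rw [mkG_eq_zero_iff, mem_succIdeal_iff]
  constructor
  · intro h
    simpa [Polynomial.coeff_monomial] using h n
  · intro h m
    rw [coe_rmono, Polynomial.coeff_monomial]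
    split_ifs with hm
    · exact hm ▸ h
    · exact zero_mem _

/-- in the associated graded domain a product of initial forms vanishes only if a factor does -/
theorem mem_succ_or_mem_succ [IsDomain (GrRing 𝓕)] {a b : A} {m n : ℕ} (ha : a ∈ 𝓕.F m) (hb : b ∈ 𝓕.F n)
    (h : a * b ∈ 𝓕.F (m + n + 1)) : a ∈ 𝓕.F (m + 1) ∨ b ∈ 𝓕.F (n + 1) := by
  rw [← mkG_rmono_eq_zero_iff 𝓕 (mul_mem_F 𝓕 ha hb), ← rmono_mul 𝓕 ha hb, map_mul, mul_eq_zero] at h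
  exact h.imp (mkG_rmono_eq_zero_iff 𝓕 ha).1 (mkG_rmono_eq_zero_iff 𝓕 hb).1

/-- the degrees of the associated graded domain, when not all divisible by some `r ≥ 2`, contain
numbers congruent to one modulo any `N` -/
theorem exists_degree [IsDomain (GrRing 𝓕)]
    (hr : ∀ r : ℕ, 2 ≤ r → ∃ n : ℕ, ¬ r ∣ n ∧ AssocGr.gr 𝓕 n ≠ ⊥) (N : ℕ) (hN : 1 ≤ N) :
    ∃ (q : ℕ) (a : A), a ∈ 𝓕.F (q * N + 1) ∧ a ∉ 𝓕.F (q * N + 1 + 1) := by
  let H : AddSubmonoid ℕ :=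
    { carrier := {n | ∃ a ∈ 𝓕.F n, a ∉ 𝓕.F (n + 1)}
      zero_mem' := ⟨1, by rw [𝓕.zero_eq]; exact Submodule.mem_top, fun h => one_ne_zero (α := GrRing 𝓕) (by
        rw [← (mkG 𝓕).map_one, show (1 : 𝓕.rees) = rmono 𝓕 0 1 (by rw [𝓕.zero_eq]; exact Submodule.mem_top) from
          Subtype.ext (by rw [coe_rmono]; simp)]
        exact (mkG_rmono_eq_zero_iff 𝓕 _).2 h)⟩
      add_mem' := fun {m n} ⟨a, ha, ha'⟩ ⟨b, hb, hb'⟩ =>
        ⟨a * b, mul_mem_F 𝓕 ha hb, fun h => (mem_succ_or_mem_succ 𝓕 ha hb h).elim ha' hb'⟩ }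
  have hH : ∀ n, AssocGr.gr 𝓕 n ≠ ⊥ → n ∈ H := fun n hn => by
    obtain ⟨x, hx, hx0⟩ := Submodule.exists_mem_ne_zero_of_ne_bot hn
    obtain ⟨f, hf, rfl⟩ := (mem_gr_iff 𝓕 n x).1 hx
    obtain ⟨a, ha, rfl⟩ := exists_eq_rmono 𝓕 hf
    exact ⟨a, ha, fun h => hx0 ((mkG_rmono_eq_zero_iff 𝓕 ha).2 h)⟩
  let D : AddSubgroup ℤ :=
    { carrier := {z | ∃ n ∈ H, ∃ n' ∈ H, z = (n : ℤ) - n'}
      zero_mem' := ⟨0, H.zero_mem, 0, H.zero_mem, by simp⟩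
      add_mem' := fun {x y} ⟨a, ha, b, hb, e⟩ ⟨c, hc, d, hd, e'⟩ =>
        ⟨a + c, H.add_mem ha hc, b + d, H.add_mem hb hd, by rw [e, e']; push_cast; ring⟩
      neg_mem' := fun {x} ⟨a, ha, b, hb, e⟩ => ⟨b, hb, a, ha, by rw [e]; ring⟩ }
  obtain ⟨g, hg⟩ := Int.subgroup_cyclic D
  have hdvd : ∀ n ∈ H, g.natAbs ∣ n := fun n hn => by
    have h1 : (n : ℤ) ∈ D := ⟨n, hn, 0, H.zero_mem, by simp⟩
    rw [hg, AddSubgroup.mem_closure_singleton] at h1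
    obtain ⟨k, hk⟩ := h1
    refine ⟨k.natAbs, ?_⟩
    have := congrArg Int.natAbs hk
    simp only [smul_eq_mul, Int.natAbs_mul, Int.natAbs_natCast] at this
    rw [← this, mul_comm]
  have hg1 : g.natAbs = 1 := by
    by_contra hne
    rcases Nat.lt_or_ge g.natAbs 2 with h2 | h2
    · obtain ⟨n, hn, hn'⟩ := hr 2 le_rfl
      have := hdvd n (hH n hn')
      rw [show g.natAbs = 0 by omega, zero_dvd_iff] at this
      exact hn (this ▸ dvd_zero 2)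
    · obtain ⟨n, hn, hn'⟩ := hr _ h2
      exact hn (hdvd n (hH n hn'))
  have h1 : (1 : ℤ) ∈ D := by
    rw [hg, AddSubgroup.mem_closure_singleton]
    rcases Int.natAbs_eq_iff.1 hg1 with h | h
    · exact ⟨1, by simp [h]⟩
    · exact ⟨-1, by simp [h]⟩
  obtain ⟨n, hn, n', hn', e⟩ := h1
  obtain ⟨M, rfl⟩ := Nat.exists_eq_add_of_le hN
  have hmem : n + M * n' ∈ H := H.add_mem hn (by simpa using H.nsmul_mem hn' M)
  obtain ⟨a, ha, ha'⟩ := hmem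
  refine ⟨n', a, ?_, ?_⟩
  all_goals rw [show n' * (1 + M) + 1 = n + M * n' by
    have : n = n' + 1 := by omega
    rw [this]; ring]
  exacts [ha, ha']

/-- a point of `Proj` of the Rees algebra on the exceptional locus has a unit of degree one -/
theorem exists_unit_deg_one [IsDomain A] [IsDomain (GrRing 𝓕)]
    (hr : ∀ r : ℕ, 2 ≤ r → ∃ n : ℕ, ¬ r ∣ n ∧ AssocGr.gr 𝓕 n ≠ ⊥)
    (hcart : PicF.IsInvertible (GrTwist.twist (Rees.deg 𝓕.rees) 1))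
    (x : ProjectiveSpectrum (Rees.deg 𝓕.rees)) (hx : succIdeal 𝓕 ≤ x.asHomogeneousIdeal.toIdeal) :
    ∃ (j : ℕ) (a s : 𝓕.rees), a ∈ Rees.deg 𝓕.rees (j + 1) ∧ s ∈ Rees.deg 𝓕.rees j ∧
      a ∉ x.asHomogeneousIdeal ∧ s ∉ x.asHomogeneousIdeal := by
  let P : Ideal 𝓕.rees := x.asHomogeneousIdeal.toIdeal
  obtain ⟨j, a, s, ha, hs, hsx, hgen⟩ := exists_generator_twistOne _ hcart x
  obtain ⟨α, hα, rfl⟩ := exists_eq_rmono 𝓕 ha
  obtain ⟨σ, hσ, rfl⟩ := exists_eq_rmono 𝓕 hs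
  have hP : ∀ {n : ℕ} {b : A} (hb : b ∈ 𝓕.F n), rmono 𝓕 n b hb ∉ P → b ∉ 𝓕.F (n + 1) :=
    fun hb h h' => h (hx ((mkG_eq_zero_iff 𝓕 _).1 ((mkG_rmono_eq_zero_iff 𝓕 hb).2 h')))
  have hne : ∀ {n : ℕ} {b : A} (hb : b ∈ 𝓕.F n), rmono 𝓕 n b hb ∉ P → b ≠ 0 :=
    fun hb h h' => hP hb h (h' ▸ zero_mem _)
  have hgen' : ∀ (j' : ℕ) (α' σ' : A), α' ∈ 𝓕.F (j' + 1) → ∀ hσ' : σ' ∈ 𝓕.F j', rmono 𝓕 j' σ' hσ' ∉ P →
      ∃ (m : ℕ) (π ρ : A) (hρ : ρ ∈ 𝓕.F m), π ∈ 𝓕.F m ∧ rmono 𝓕 m ρ hρ ∉ P ∧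
        ρ * σ * α' = σ' * (π * α) := by
    intro j' α' σ' hα' hσ' hσ'P
    obtain ⟨m, p, r, c, hp, hr', hrP, hcP, heq⟩ :=
      hgen j' _ _ (rmono_mem_deg 𝓕 _ α' hα') (rmono_mem_deg 𝓕 _ σ' hσ') hσ'P
    obtain ⟨π, hπ, rfl⟩ := exists_eq_rmono 𝓕 hp
    obtain ⟨ρ, hρ, rfl⟩ := exists_eq_rmono 𝓕 hr'
    refine ⟨m, π, ρ, hρ, hπ, hrP, ?_⟩
    have h1 := mul_left_cancel₀ (fun h0 => hcP (by rw [h0]; exact zero_mem _)) heq
    rw [rmono_mul, rmono_mul, rmono_mul, rmono_mul] at h1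
    have h2 := congrArg (fun f : 𝓕.rees => (f : Polynomial A).coeff (m + j + (j' + 1))) h1
    simp only [coe_rmono, Polynomial.coeff_monomial, if_pos] at h2
    rwa [if_pos (by ring)] at h2
  obtain ⟨g, hg, hgP⟩ := SetLike.not_le_iff_exists.1 x.not_irrelevant_le
  obtain ⟨N, τ, hτ, hN, hτP⟩ : ∃ (N : ℕ) (τ : A) (hτ : τ ∈ 𝓕.F N), 1 ≤ N ∧ rmono 𝓕 N τ hτ ∉ P := by
    classical
    by_contra hno
    push Not at hno
    apply hgP
    show g ∈ P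
    rw [← DirectSum.sum_support_decompose (Rees.deg 𝓕.rees) g]
    refine sum_mem fun i _ => ?_
    rcases Nat.eq_zero_or_pos i with rfl | hi
    · rw [HomogeneousIdeal.mem_irrelevant_iff, GradedRing.proj_apply] at hg
      rw [hg]; exact zero_mem _
    · obtain ⟨b, hb, e⟩ := exists_eq_rmono 𝓕 (DirectSum.decompose (Rees.deg 𝓕.rees) g i).2
      rw [e]
      exact hno i b hb hi
  have hPm : ∀ {m n : ℕ} {b c : A} (hb : b ∈ 𝓕.F m) (hc : c ∈ 𝓕.F n), rmono 𝓕 m b hb ∉ P →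
      rmono 𝓕 n c hc ∉ P → rmono 𝓕 (m + n) (b * c) (mul_mem_F 𝓕 hb hc) ∉ P := by
    intro m n b c hb hc h1 h2
    rw [← rmono_mul 𝓕 hb hc]
    exact fun h => (x.isPrime.mem_or_mem h).elim h1 h2
  have hpowP : ∀ {n : ℕ} {b : A} (hb : b ∈ 𝓕.F n) (k : ℕ), rmono 𝓕 n b hb ∉ P →
      rmono 𝓕 (n * k) (b ^ k) (pow_mem_F 𝓕 hb k) ∉ P := by
    intro n b hb k h
    rw [show rmono 𝓕 (n * k) (b ^ k) (pow_mem_F 𝓕 hb k) = rmono 𝓕 n b hb ^ k from
      Subtype.ext (by rw [SubmonoidClass.coe_pow, coe_rmono, coe_rmono, Polynomial.monomial_pow])]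
    exact fun h' => h (x.isPrime.mem_of_pow_mem _ h')
  -- the generator is nonzero on the exceptional locus
  have hαbar : α ∉ 𝓕.F (j + 1 + 1) := by
    intro hα'
    obtain ⟨q, α', hα1, hα2⟩ := exists_degree 𝓕 hr N hN
    rw [mul_comm q N] at hα1 hα2
    obtain ⟨m, π, ρ, hρ, hπ, hρP, heq⟩ := hgen' (N * q) α' (τ ^ q) hα1 (pow_mem_F 𝓕 hτ q) (hpowP hτ q hτP)
    have h1 : ρ * σ * α' ∈ 𝓕.F (m + j + (N * q + 1) + 1) := by
      rw [heq]
      exact 𝓕.antitone (by omega) (mul_mem_F 𝓕 (pow_mem_F 𝓕 hτ q) (mul_mem_F 𝓕 hπ hα'))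
    exact (mem_succ_or_mem_succ 𝓕 (mul_mem_F 𝓕 hρ hσ) hα1 h1).elim (hP _ (hPm hρ hσ hρP hsx)) hα2
  have key : ∀ k, k + 1 ≤ N → ∃ (m : ℕ) (π ρ : A) (hρ : ρ ∈ 𝓕.F m), π ∈ 𝓕.F m ∧ rmono 𝓕 m ρ hρ ∉ P ∧
      τ * ρ * σ ^ (k + 1) = π * α ^ (k + 1) := by
    intro k
    induction k with
    | zero =>
      intro hk
      have h0 : (1 : A) ∈ 𝓕.F 0 := by rw [𝓕.zero_eq]; exact Submodule.mem_top
      obtain ⟨m, π, ρ, hρ, hπ, hρP, heq⟩ := hgen' 0 τ 1 (𝓕.antitone hk hτ) h0 (by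
        rw [show rmono 𝓕 0 1 h0 = 1 from Subtype.ext (by rw [coe_rmono]; simp)]
        exact fun h => x.isPrime.ne_top ((Ideal.eq_top_iff_one _).2 h))
      exact ⟨m, π, ρ, hρ, hπ, hρP, by rw [pow_one, pow_one]; linear_combination heq⟩
    | succ k ih =>
      intro hk
      obtain ⟨m, π, ρ, hρ, hπ, hρP, heq⟩ := ih (by omega)
      have hπ' : π ∈ 𝓕.F (m + 1) := by
        have h1 : π * α ^ (k + 1) ∈ 𝓕.F (m + (j + 1) * (k + 1) + 1) := by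
          rw [← heq]
          refine 𝓕.antitone ?_ (mul_mem_F 𝓕 (mul_mem_F 𝓕 hτ hρ) (pow_mem_F 𝓕 hσ (k + 1)))
          have : (j + 1) * (k + 1) = j * (k + 1) + (k + 1) := by ring
          omega
        refine (mem_succ_or_mem_succ 𝓕 hπ (pow_mem_F 𝓕 hα _) h1).resolve_right fun h2 => ?_
        rw [← mkG_rmono_eq_zero_iff 𝓕 (pow_mem_F 𝓕 hα _),
          show rmono 𝓕 ((j + 1) * (k + 1)) (α ^ (k + 1)) (pow_mem_F 𝓕 hα _) = rmono 𝓕 (j + 1) α hα ^ (k + 1) from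
            Subtype.ext (by rw [SubmonoidClass.coe_pow, coe_rmono, coe_rmono, Polynomial.monomial_pow]),
          map_pow] at h2
        exact hαbar ((mkG_rmono_eq_zero_iff 𝓕 hα).1 (pow_eq_zero_iff (Nat.succ_ne_zero k) |>.1 h2))
      obtain ⟨m', π', ρ', hρ', hπ'', hρ'P, heq'⟩ := hgen' m π ρ hπ' hρ hρP
      refine ⟨m', π', ρ', hρ', hπ'', hρ'P, mul_left_cancel₀ (hne hρ hρP) ?_⟩
      linear_combination (σ * ρ') * heq + α ^ (k + 1) * heq'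
  obtain ⟨m, π, ρ, hρ, hπ, hρP, heq⟩ := key (N - 1) (by omega)
  rw [show N - 1 + 1 = N by omega] at heq
  refine ⟨j, _, _, ha, hs, fun haP => ?_, hsx⟩
  refine hPm (mul_mem_F 𝓕 hτ hρ) (pow_mem_F 𝓕 hσ N) (hPm hτ hρ hτP hρP) (hpowP hσ N hsx) ?_
  rw [rmono_congr 𝓕 (show N + m + j * N = m + (j + 1) * N by ring) heq _ (mul_mem_F 𝓕 hπ (pow_mem_F 𝓕 hα N)),
    ← rmono_mul 𝓕 hπ (pow_mem_F 𝓕 hα N)]
  refine Ideal.mul_mem_left P _ ?_
  rw [show rmono 𝓕 ((j + 1) * N) (α ^ N) (pow_mem_F 𝓕 hα N) = rmono 𝓕 (j + 1) α hα ^ N from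
    Subtype.ext (by rw [SubmonoidClass.coe_pow, coe_rmono, coe_rmono, Polynomial.monomial_pow])]
  exact Ideal.pow_mem_of_mem P haP N (by omega)

theorem isFiniteLength_closure [IsNoetherianRing A] [IsLocalRing A] [IsDomain A] [IsDomain (GrRing 𝓕)]
    (hfg : Algebra.FiniteType A 𝓕.rees) (hI : (𝓕.F 1).radical = IsLocalRing.maximalIdeal A)
    (hr : ∀ r : ℕ, 2 ≤ r → ∃ n : ℕ, ¬ r ∣ n ∧ AssocGr.gr 𝓕 n ≠ ⊥)
    (hcart : PicF.IsInvertible (GrTwist.twist (Rees.deg 𝓕.rees) 1))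
    (hnor : ∀ x : Proj (AssocGr.gr 𝓕), IsDomain ((Proj (AssocGr.gr 𝓕)).presheaf.stalk x) ∧
      IsIntegrallyClosed ((Proj (AssocGr.gr 𝓕)).presheaf.stalk x))
    (L : Type u) [Field L] [Algebra (GrRing 𝓕) L] [IsFractionRing (GrRing 𝓕) L] :
    IsFiniteLength (GrRing 𝓕) (↥(integralClosure (GrRing 𝓕) L) ⧸
      LinearMap.range (Algebra.linearMap (GrRing 𝓕) ↥(integralClosure (GrRing 𝓕) L))) := by
  classical
  have hrees : IsNoetherianRing 𝓕.rees := Algebra.FiniteType.isNoetherianRing A 𝓕.rees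
  have hftA : Algebra.FiniteType A (GrRing 𝓕) := hfg.of_surjective (mkG 𝓕) (mkG_surjective 𝓕)
  have : IsNoetherianRing (GrRing 𝓕) := Algebra.FiniteType.isNoetherianRing A (GrRing 𝓕)
  have hker : ∀ b : A, algebraMap A (GrRing 𝓕) b = 0 ↔ b ∈ 𝓕.F 1 := fun b => by
    rw [AssocGr.algebraMap_eq, Submodule.coe_eq_zero, inDeg_eq_zero_iff]
  have hF1 : 𝓕.F 1 = IsLocalRing.maximalIdeal A := by
    have hp : (𝓕.F 1).IsPrime := by
      rw [show 𝓕.F 1 = RingHom.ker (algebraMap A (GrRing 𝓕)) from Ideal.ext fun b => (hker b).symm]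
      exact RingHom.ker_isPrime _
    rw [← hI, hp.isRadical.radical]
  let K := A ⧸ IsLocalRing.maximalIdeal A
  let _ : Field K := Ideal.Quotient.field _
  let _ : Algebra K (GrRing 𝓕) := (Ideal.Quotient.lift (IsLocalRing.maximalIdeal A) (algebraMap A (GrRing 𝓕))
    fun b hb => (hker b).2 (hF1.symm ▸ hb)).toAlgebra
  have : IsScalarTower A K (GrRing 𝓕) := IsScalarTower.of_algebraMap_eq fun _ => rfl
  have : Algebra.FiniteType K (GrRing 𝓕) := Algebra.FiniteType.of_restrictScalars_finiteType A K (GrRing 𝓕)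
  have : Module.Finite (GrRing 𝓕) (integralClosure (GrRing 𝓕) L) :=
    CAlg6.finite_integralClosure K (GrRing 𝓕) L L
  rw [isFiniteLength_iff_annihilator]
  intro p hp hle
  set Gp := (HomogeneousIdeal.irrelevant (gr 𝓕)).toIdeal with hGp
  have hmax : Gp.IsMaximal := by
    rw [Ideal.isMaximal_iff]
    refine ⟨fun h1 => ?_, fun J y hle' hy hyJ => ?_⟩
    · rw [HomogeneousIdeal.mem_iff, HomogeneousIdeal.mem_irrelevant_iff, GradedRing.proj_apply,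
        DirectSum.decompose_of_mem_same _ (SetLike.one_mem_graded (gr 𝓕))] at h1
      exact one_ne_zero h1
    · obtain ⟨b, hb⟩ := inDeg_surjective 𝓕 0 (DirectSum.decompose (gr 𝓕) y 0)
      have hb' : algebraMap A (GrRing 𝓕) (b : A) = (DirectSum.decompose (gr 𝓕) y 0 : GrRing 𝓕) := by
        rw [AssocGr.algebraMap_eq, ← hb]
      have hbu : IsUnit (b : A) := by
        by_contra hnu
        apply hy
        rw [HomogeneousIdeal.mem_iff, HomogeneousIdeal.mem_irrelevant_iff, GradedRing.proj_apply, ← hb',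
          hker, hF1]
        exact hnu
      have h1 : y - algebraMap A (GrRing 𝓕) (b : A) ∈ J := hle' (by
        rw [hGp, HomogeneousIdeal.mem_iff, HomogeneousIdeal.mem_irrelevant_iff, GradedRing.proj_apply, hb',
          DirectSum.decompose_sub, DirectSum.sub_apply, AddSubgroupClass.coe_sub,
          DirectSum.decompose_of_mem_same _ (DirectSum.decompose (gr 𝓕) y 0).2, sub_self])
      have h2 := sub_mem hyJ h1
      rw [sub_sub_cancel] at h2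
      rw [Ideal.eq_top_of_isUnit_mem _ h2 (hbu.map _)]
      exact Submodule.mem_top
  let q := (p.homogeneousCore (gr 𝓕)).toIdeal
  have hq : q.IsPrime := hp.homogeneousCore
  have hCq : conductorOf (G := GrRing 𝓕) L ≤ q :=
    (conductorOf_isHomogeneous (gr 𝓕) L).toIdeal_homogeneousCore_eq_self.symm.trans_le
      (Ideal.homogeneousCore_mono _ hle)
  suffices hqp : Gp ≤ q by
    rw [← hmax.eq_of_le hp.ne_top (hqp.trans (Ideal.toIdeal_homogeneousCore_le _ p))]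
    exact hmax
  by_contra hirr
  let y : ProjectiveSpectrum (gr 𝓕) := ⟨p.homogeneousCore (gr 𝓕), hq, hirr⟩
  let P : HomogeneousIdeal (Rees.deg 𝓕.rees) := ⟨q.comap (mkG 𝓕).toRingHom, fun n f hf => by
    show mkG 𝓕 _ ∈ q
    rw [← coe_decompose_mkG]
    exact (p.homogeneousCore (gr 𝓕)).isHomogeneous n hf⟩
  have hPirr : ¬ HomogeneousIdeal.irrelevant (Rees.deg 𝓕.rees) ≤ P := fun hle' => hirr fun g hg => by
    obtain ⟨f, rfl⟩ := mkG_surjective 𝓕 g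
    rw [hGp, HomogeneousIdeal.mem_iff, HomogeneousIdeal.mem_irrelevant_iff, GradedRing.proj_apply] at hg
    rw [coe_decompose_mkG] at hg
    have : f - (DirectSum.decompose (Rees.deg 𝓕.rees) f 0 : 𝓕.rees) ∈
        (HomogeneousIdeal.irrelevant (Rees.deg 𝓕.rees)).toIdeal := by
      rw [HomogeneousIdeal.mem_iff, HomogeneousIdeal.mem_irrelevant_iff, map_sub, GradedRing.proj_apply,
        GradedRing.proj_apply,
        DirectSum.decompose_of_mem_same _ (DirectSum.decompose (Rees.deg 𝓕.rees) f 0).2, sub_self]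
    have h2 : mkG 𝓕 (f - (DirectSum.decompose (Rees.deg 𝓕.rees) f 0 : 𝓕.rees)) ∈ q := hle' this
    rwa [map_sub, hg, sub_zero] at h2
  let x : ProjectiveSpectrum (Rees.deg 𝓕.rees) :=
    ⟨P, Ideal.IsPrime.comap (mkG 𝓕).toRingHom (K := q), hPirr⟩
  obtain ⟨j, a, s, ha, hs, hax, hsx⟩ := exists_unit_deg_one 𝓕 hr hcart x (fun f hf => by
    show mkG 𝓕 f ∈ q
    rw [(mkG_eq_zero_iff 𝓕 f).2 hf]
    exact zero_mem _)
  let e := (Proj.stalkIso (gr 𝓕) y).commRingCatIsoToRingEquiv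
  obtain ⟨hd, hn⟩ := hnor y
  have : IsDomain (HomogeneousLocalization.AtPrime (gr 𝓕) q) := e.toMulEquiv.isDomain_iff.1 hd
  have : IsIntegrallyClosed (HomogeneousLocalization.AtPrime (gr 𝓕) q) :=
    IsIntegrallyClosed.of_equiv e
  exact conductorOf_not_le_of_unit_deg_one (gr 𝓕) L q (mkG_mem_gr 𝓕 ha) (mkG_mem_gr 𝓕 hs) hax hsx hCq

end Groth.Agent.FiltBl13
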