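import Groth.Agent.CAlg6.FiniteClosure
import Mathlib.RingTheory.GradedAlgebra.Homogeneous.Ideal
import Mathlib.RingTheory.GradedAlgebra.Radical
import Mathlib.RingTheory.Polynomial.IsIntegral
import Mathlib.RingTheory.FiniteLength
import Mathlib.RingTheory.HopkinsLevitzki

/-!
# The integral closure of a graded domain is graded; the conductor is homogeneous
-/

set_option autoImplicit false

universe u

open Polynomial DirectSum

attribute [local instance] Polynomial.algebra

namespace Groth.Agent.FiltBl13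

section Closure

variable {G : Type u} [CommRing G] [IsDomain G] {σ : Type*} [SetLike σ G] [AddSubgroupClass σ G]
  (𝒢 : ℕ → σ) [GradedRing 𝒢]
  (L : Type u) [Field L] [Algebra G L] [IsFractionRing G L]

/-- `r ↦ ∑ rᵢ X ^ i` -/
noncomputable def toPoly : G →+* G[X] :=
  (DirectSum.toSemiring
    (fun i : ℕ => (monomial i).toAddMonoidHom.comp (AddSubmonoidClass.subtype (𝒢 i)))
    (by show monomial 0 (1 : G) = 1; simp)
    (fun {i j} a b => by
      show monomial (i + j) ((a : G) * b) = monomial i (a : G) * monomial j (b : G)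
      rw [monomial_mul_monomial])).comp (DirectSum.decomposeRingEquiv 𝒢).toRingHom

omit [IsDomain G] in
theorem toPoly_of_mem {i : ℕ} {r : G} (hr : r ∈ 𝒢 i) : toPoly 𝒢 r = monomial i r := by
  simp only [toPoly, RingHom.coe_comp, Function.comp_apply, RingEquiv.toRingHom_eq_coe,
    RingHom.coe_coe]
  rw [show DirectSum.decomposeRingEquiv 𝒢 r = DirectSum.decompose 𝒢 r from rfl,
    DirectSum.decompose_of_mem 𝒢 hr, DirectSum.toSemiring_of]
  rfl

omit [IsDomain G] in
theorem coeff_toPoly (r : G) (k : ℕ) :
    (toPoly 𝒢 r).coeff k = (DirectSum.decompose 𝒢 r k : G) := by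
  classical
  induction r using DirectSum.Decomposition.inductionOn 𝒢 with
  | zero => simp
  | @homogeneous i r =>
    rw [toPoly_of_mem 𝒢 r.2, coeff_monomial]
    split_ifs with h
    · subst h; rw [DirectSum.decompose_of_mem_same 𝒢 r.2]
    · rw [DirectSum.decompose_of_mem_ne 𝒢 r.2 h]
  | add a b ha hb => simp [ha, hb]

omit [IsDomain G] in
theorem eval_one_toPoly (r : G) : (toPoly 𝒢 r).eval 1 = r := by
  induction r using DirectSum.Decomposition.inductionOn 𝒢 with
  | zero => simp
  | @homogeneous i r => rw [toPoly_of_mem 𝒢 r.2]; simp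
  | add a b ha hb => rw [map_add, eval_add, ha, hb]

omit [IsDomain G] in
theorem toPoly_injective : Function.Injective (toPoly 𝒢) :=
  Function.LeftInverse.injective (eval_one_toPoly 𝒢)

omit [IsDomain G] in
theorem coe_mul_mem {i j k : ℕ} {x y : G} (h : i + j = k) (hx : x ∈ 𝒢 i) (hy : y ∈ 𝒢 j) :
    x * y ∈ 𝒢 k := h ▸ SetLike.mul_mem_graded hx hy

/-- an integral element of the fraction field is a sum of integral homogeneous fractions -/
theorem exists_homog_sum (z : L) (hz : IsIntegral G z) :
    ∃ w : L[X], z = w.eval 1 ∧ ∀ i, IsIntegral G (w.coeff i) ∧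
      ∃ (e : ℕ) (h g : G), h ≠ 0 ∧ h ∈ 𝒢 e ∧ g ∈ 𝒢 (i + e) ∧
        algebraMap G L h * w.coeff i = algebraMap G L g := by
  classical
  let j : G[X] →+* L[X] := mapRingHom (algebraMap G L)
  let ι : G →+* L[X] := j.comp (toPoly 𝒢)
  have hι : Function.Injective ι :=
    (Polynomial.map_injective _ (IsFractionRing.injective G L)).comp (toPoly_injective 𝒢)
  let M := FractionRing L[X]
  have hinj : Function.Injective ((algebraMap L[X] M).comp ι) :=
    (IsFractionRing.injective L[X] M).comp hι
  let ψ : L →+* M := IsFractionRing.lift hinj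
  have hψ : ∀ r, ψ (algebraMap G L r) = algebraMap L[X] M (ι r) :=
    fun r => IsFractionRing.lift_algebraMap _ r
  obtain ⟨Q, hQ, hQz⟩ := hz
  have hint : IsIntegral L[X] (ψ z) := by
    refine ⟨Q.map ι, hQ.map _, ?_⟩
    rw [eval₂_map]
    have h1 := congrArg ψ hQz
    rw [map_zero, hom_eval₂] at h1
    rwa [show ψ.comp (algebraMap G L) = (algebraMap L[X] M).comp ι from RingHom.ext hψ] at h1
  obtain ⟨w, hw⟩ := IsIntegrallyClosed.isIntegral_iff.1 hint
  have hwQ : eval₂ ι w Q = 0 := by
    apply IsFractionRing.injective L[X] M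
    rw [map_zero, hom_eval₂, hw,
      show (algebraMap L[X] M).comp ι = ψ.comp (algebraMap G L) from (RingHom.ext hψ).symm,
      ← hom_eval₂, hQz, map_zero]
  have hwint : IsIntegral G[X] w := by
    refine ⟨Q.map (toPoly 𝒢), hQ.map _, ?_⟩
    rw [eval₂_map]
    exact hwQ
  have hcoeff := Polynomial.isIntegral_iff_isIntegral_coeff.1 hwint
  obtain ⟨a, b, hb, rfl⟩ := IsFractionRing.div_surjective G z
  have hb0 : b ≠ 0 := nonZeroDivisors.ne_zero hb
  have hrel : w * ι b = ι a := by
    apply IsFractionRing.injective L[X] M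
    have hψb : ψ (algebraMap G L b) ≠ 0 :=
      (map_ne_zero_iff _ ψ.injective).2 (IsFractionRing.to_map_ne_zero_of_mem_nonZeroDivisors hb)
    rw [map_mul, hw, ← hψ, ← hψ, map_div₀, div_mul_cancel₀ _ hψb]
  have heval : ∀ r, (ι r).eval 1 = algebraMap G L r := fun r => by
    show ((toPoly 𝒢 r).map (algebraMap G L)).eval 1 = _
    rw [eval_one_map, eval_one_toPoly]
  refine ⟨w, ?_, fun i => ⟨hcoeff i, ?_⟩⟩
  · rw [div_eq_iff (IsFractionRing.to_map_ne_zero_of_mem_nonZeroDivisors hb), ← heval a, ← hrel,
      eval_mul, heval]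
  -- the lowest component of `b`
  have hne : (toPoly 𝒢 b) ≠ 0 := fun h => hb0 (by rw [← eval_one_toPoly 𝒢 b, h, eval_zero])
  let k := (toPoly 𝒢 b).natTrailingDegree
  let b₀ := (toPoly 𝒢 b).coeff k
  have hb₀ : b₀ ≠ 0 := trailingCoeff_nonzero_iff_nonzero.2 hne
  have hmem : ∀ (r : G) (m : ℕ), (toPoly 𝒢 r).coeff m ∈ 𝒢 m := fun r m => by
    rw [coeff_toPoly]; exact SetLike.coe_mem _
  have key : ∀ i, ∃ g ∈ 𝒢 (i + (i + 1) * k),
      algebraMap G L (b₀ ^ (i + 1)) * w.coeff i = algebraMap G L g := by
    intro i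
    induction i using Nat.strong_induction_on with
    | _ i ih =>
      choose g hg hgw using ih
      have hsum : ∑ p ∈ Finset.range (i + 1),
          w.coeff p * algebraMap G L ((toPoly 𝒢 b).coeff (i + k - p)) =
            algebraMap G L ((toPoly 𝒢 a).coeff (i + k)) := by
        have h1 := congrArg (fun p : L[X] => p.coeff (i + k)) hrel
        simp only [coeff_mul, Finset.Nat.sum_antidiagonal_eq_sum_range_succ_mk,
          ι, j, RingHom.comp_apply, coe_mapRingHom, coeff_map] at h1
        rw [← h1]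
        refine Finset.sum_subset (Finset.range_subset_range.2 (by omega)) fun p hp hp' => ?_
        rw [Finset.mem_range] at hp hp'
        rw [coeff_eq_zero_of_lt_natTrailingDegree (p := toPoly 𝒢 b) (by omega), map_zero, mul_zero]
      rw [Finset.sum_range_succ, Nat.add_sub_cancel_left] at hsum
      let term : Fin i → G := fun p =>
        b₀ ^ (i - 1 - (p : ℕ)) * ((toPoly 𝒢 b).coeff (i + k - p) * g p p.2)
      refine ⟨b₀ ^ i * (toPoly 𝒢 a).coeff (i + k) - ∑ p : Fin i, term p, ?_, ?_⟩
      · refine sub_mem ?_ (sum_mem fun p _ => ?_)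
        · exact coe_mul_mem 𝒢 (by rw [smul_eq_mul]; ring) (SetLike.pow_mem_graded i (hmem b k))
            (hmem a (i + k))
        · obtain ⟨m, hm⟩ : ∃ m, i = (p : ℕ) + 1 + m := Nat.exists_eq_add_of_le p.2
          refine coe_mul_mem 𝒢 ?_ (SetLike.pow_mem_graded _ (hmem b k))
            (coe_mul_mem 𝒢 rfl (hmem b _) (hg p p.2))
          rw [show i - 1 - (p : ℕ) = m by omega, show i + k - p = m + 1 + k by omega, smul_eq_mul]
          nlinarith
      · rw [map_sub, map_sum, map_mul, ← hsum, Finset.sum_range, mul_add, Finset.mul_sum, eq_sub_iff_add_eq',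
          show algebraMap G L (b₀ ^ (i + 1)) * w.coeff i =
            algebraMap G L (b₀ ^ i) * (w.coeff i * algebraMap G L b₀) by rw [pow_succ, map_mul]; ring]
        refine congrArg₂ _ (Finset.sum_congr rfl fun p _ => ?_) rfl
        obtain ⟨m, hm⟩ : ∃ m, i = (p : ℕ) + 1 + m := Nat.exists_eq_add_of_le p.2
        simp only [term]
        rw [map_mul, map_mul, ← hgw p p.2, show i - 1 - (p : ℕ) = m by omega,
          show b₀ ^ i = b₀ ^ ((p : ℕ) + 1) * b₀ ^ m by rw [← pow_add, ← hm], map_mul]
        ring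
  obtain ⟨g, hg, hgw⟩ := key i
  exact ⟨(i + 1) * k, b₀ ^ (i + 1), g, pow_ne_zero _ hb₀,
    by simpa using SetLike.pow_mem_graded (i + 1) (hmem b k), hg, hgw⟩

/-- the conductor of `G` in its normalization -/
noncomputable def conductorOf : Ideal G :=
  Module.annihilator G
    (↥(integralClosure G L) ⧸ LinearMap.range (Algebra.linearMap G ↥(integralClosure G L)))

omit [IsDomain G] [IsFractionRing G L] in
theorem mem_conductorOf {c : G} :
    c ∈ conductorOf (G := G) L ↔
      ∀ z : L, IsIntegral G z → ∃ g, algebraMap G L c * z = algebraMap G L g := by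
  rw [conductorOf, Module.mem_annihilator]
  constructor
  · intro h z hz
    have h1 := h (Submodule.Quotient.mk ⟨z, hz⟩)
    rw [← Submodule.Quotient.mk_smul, Submodule.Quotient.mk_eq_zero] at h1
    obtain ⟨g, hg⟩ := h1
    refine ⟨g, ?_⟩
    have h2 := congrArg (Subtype.val (p := fun x => x ∈ integralClosure G L)) hg
    rw [← Algebra.smul_def]
    exact h2.symm
  · intro h m
    obtain ⟨⟨z, hz⟩, rfl⟩ := Submodule.Quotient.mk_surjective _ m
    obtain ⟨g, hg⟩ := h z hz
    rw [← Submodule.Quotient.mk_smul, Submodule.Quotient.mk_eq_zero]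
    refine ⟨g, Subtype.ext ?_⟩
    show algebraMap G L g = c • z
    rw [Algebra.smul_def, hg]

theorem conductorOf_isHomogeneous : (conductorOf (G := G) L).IsHomogeneous 𝒢 := by
  classical
  intro n c hc
  rw [mem_conductorOf] at hc ⊢
  intro z hz
  obtain ⟨w, rfl, hw⟩ := exists_homog_sum 𝒢 L z hz
  have hterm : ∀ i, ∃ g', algebraMap G L (DirectSum.decompose 𝒢 c n : G) * w.coeff i =
      algebraMap G L g' := by
    intro i
    obtain ⟨hint, e, h, g, h0, he, hge, hgw⟩ := hw i
    obtain ⟨g', hg'⟩ := hc _ hint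
    have h1 : c * g = g' * h := by
      apply IsFractionRing.injective G L
      rw [map_mul, map_mul, ← hgw, ← hg']
      ring
    have h2 := congrArg (fun x => (DirectSum.decompose 𝒢 x (n + (i + e)) : G)) h1
    simp only at h2
    rw [DirectSum.coe_decompose_mul_add_of_right_mem 𝒢 hge, ← add_assoc,
      DirectSum.coe_decompose_mul_add_of_right_mem 𝒢 he] at h2
    refine ⟨(DirectSum.decompose 𝒢 g' (n + i) : G),
      mul_left_cancel₀ ((map_ne_zero_iff _ (IsFractionRing.injective G L)).2 h0) ?_⟩
    rw [show algebraMap G L h * (algebraMap G L (DirectSum.decompose 𝒢 c n : G) * w.coeff i) =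
        algebraMap G L (DirectSum.decompose 𝒢 c n : G) * (algebraMap G L h * w.coeff i) by ring,
      hgw, ← map_mul, h2, map_mul, mul_comm]
  choose g' hg' using hterm
  refine ⟨∑ i ∈ Finset.range (w.natDegree + 1), g' i, ?_⟩
  rw [eval_eq_sum_range, Finset.mul_sum, map_sum]
  exact Finset.sum_congr rfl fun i _ => by rw [one_pow, mul_one, hg']

/-- off the conductor the ring is normal -/
theorem isIntegrallyClosed_of_conductorOf_not_le (p : Ideal G) [p.IsPrime]
    (h : ¬ conductorOf (G := G) L ≤ p) : IsIntegrallyClosed (Localization.AtPrime p) := by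
  obtain ⟨c, hc, hcp⟩ := SetLike.not_le_iff_exists.1 h
  let Gp := Localization.AtPrime p
  let _ : Algebra Gp L := IsLocalization.lift (M := p.primeCompl) (g := algebraMap G L)
    (fun y => isUnit_iff_ne_zero.2 ((map_ne_zero_iff _ (IsFractionRing.injective G L)).2
      (fun h0 => y.2 (h0 ▸ zero_mem p)))) |>.toAlgebra
  have : IsScalarTower G Gp L := IsScalarTower.of_algebraMap_eq fun x => by
    rw [RingHom.algebraMap_toAlgebra, IsLocalization.lift_eq]
  have : IsFractionRing Gp L := IsFractionRing.isFractionRing_of_isDomain_of_isLocalization p.primeCompl Gp L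
  rw [isIntegrallyClosed_iff L]
  intro x hx
  obtain ⟨⟨t, htp⟩, ht⟩ := IsIntegral.exists_multiple_integral_of_isLocalization p.primeCompl x hx
  obtain ⟨g, hg⟩ := (mem_conductorOf L).1 hc _ ht
  refine ⟨IsLocalization.mk' Gp g ⟨c * t, mul_mem (show c ∈ p.primeCompl from hcp) htp⟩, ?_⟩
  have hne : algebraMap G L (c * t) ≠ 0 := (map_ne_zero_iff _ (IsFractionRing.injective G L)).2
    fun h0 => (mul_mem (show c ∈ p.primeCompl from hcp) htp : c * t ∈ p.primeCompl) (h0 ▸ zero_mem p)
  rw [RingHom.algebraMap_toAlgebra, IsLocalization.lift_mk'_spec, ← hg,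
    Submonoid.smul_def, Algebra.smul_def, map_mul]
  ring

theorem conductorOf_not_le_of_isIntegrallyClosed (p : Ideal G) [p.IsPrime]
    [Module.Finite G (integralClosure G L)] [IsIntegrallyClosed (Localization.AtPrime p)] :
    ¬ conductorOf (G := G) L ≤ p := by
  classical
  let Gp := Localization.AtPrime p
  let _ : Algebra Gp L := IsLocalization.lift (M := p.primeCompl) (g := algebraMap G L)
    (fun y => isUnit_iff_ne_zero.2 ((map_ne_zero_iff _ (IsFractionRing.injective G L)).2
      (fun h0 => y.2 (h0 ▸ zero_mem p)))) |>.toAlgebra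
  have : IsScalarTower G Gp L := IsScalarTower.of_algebraMap_eq fun x => by
    rw [RingHom.algebraMap_toAlgebra, IsLocalization.lift_eq]
  have : IsFractionRing Gp L := IsFractionRing.isFractionRing_of_isDomain_of_isLocalization p.primeCompl Gp L
  have key : ∀ z : integralClosure G L, ∃ (s : p.primeCompl) (g : G),
      algebraMap G L s * z = algebraMap G L g := fun z => by
    obtain ⟨y, hy⟩ := IsIntegrallyClosed.isIntegral_iff.1 (IsIntegral.tower_top (A := Gp) z.2)
    obtain ⟨g, s, rfl⟩ := IsLocalization.exists_mk'_eq p.primeCompl y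
    refine ⟨s, g, ?_⟩
    rw [RingHom.algebraMap_toAlgebra, IsLocalization.lift_mk'_spec] at hy
    exact hy.symm
  choose s g hsg using key
  obtain ⟨T, hT⟩ := (Module.Finite.fg_top : (⊤ : Submodule G (integralClosure G L)).FG)
  refine fun hle => (∏ z ∈ T, s z : p.primeCompl).2 (hle ?_)
  rw [mem_conductorOf]
  intro z hz
  have hz' : (⟨z, hz⟩ : integralClosure G L) ∈ Submodule.span G (T : Set (integralClosure G L)) := by
    rw [hT]; exact Submodule.mem_top
  suffices ∀ y ∈ Submodule.span G (T : Set (integralClosure G L)),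
      ∃ g, algebraMap G L (∏ z ∈ T, s z : p.primeCompl) * (y : L) = algebraMap G L g from
    this _ hz'
  intro y hy
  induction hy using Submodule.span_induction with
  | mem y hy =>
    refine ⟨(∏ x ∈ T.erase y, (s x : G)) * g y, ?_⟩
    rw [Submonoid.coe_finsetProd, ← Finset.prod_erase_mul T _ hy, map_mul, map_mul, mul_assoc, hsg]
  | zero => exact ⟨0, by simp⟩
  | add x y _ _ hx hy =>
    obtain ⟨a, ha⟩ := hx
    obtain ⟨b, hb⟩ := hy
    exact ⟨a + b, by rw [map_add, ← ha, ← hb]; push_cast; ring⟩
  | smul c x _ hx =>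
    obtain ⟨a, ha⟩ := hx
    refine ⟨c * a, ?_⟩
    rw [map_mul, ← ha, show ((c • x : integralClosure G L) : L) = algebraMap G L c * x from
      Algebra.smul_def c (x : L)]
    ring

end Closure

theorem isFiniteLength_iff_annihilator {G : Type u} [CommRing G] [IsNoetherianRing G]
    (M : Type u) [AddCommGroup M] [Module G M] [Module.Finite G M] :
    IsFiniteLength G M ↔
      ∀ p : Ideal G, p.IsPrime → Module.annihilator G M ≤ p → p.IsMaximal := by
  constructor
  · intro h p hp hle
    have := (isFiniteLength_iff_isNoetherian_isArtinian.1 h).2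
    obtain ⟨n, v, hv⟩ := Module.Finite.exists_fin (R := G) (M := M)
    let f : G →ₗ[G] (Fin n → M) := LinearMap.pi fun i => LinearMap.toSpanSingleton G M (v i)
    have hker : LinearMap.ker f ≤ Module.annihilator G M := fun c hc => by
      rw [Module.mem_annihilator]
      intro m
      have hm : m ∈ Submodule.span G (Set.range v) := hv ▸ Submodule.mem_top
      induction hm using Submodule.span_induction with
      | mem y hy =>
        obtain ⟨i, rfl⟩ := hy
        exact congrFun hc i
      | zero => simp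
      | add x y _ _ hx hy => rw [smul_add, hx, hy, add_zero]
      | smul a x _ hx => rw [smul_comm, hx, smul_zero]
    have : IsArtinian G (G ⧸ LinearMap.ker f) :=
      isArtinian_of_linearEquiv f.quotKerEquivRange.symm
    have : IsArtinian G (G ⧸ p) :=
      isArtinian_of_surjective _ (Submodule.factor (hker.trans hle)) (Submodule.factor_surjective _)
    have : IsArtinianRing (G ⧸ p) := isArtinian_of_tower G this
    exact Ideal.Quotient.maximal_of_isField p (IsArtinianRing.isField_of_isDomain (G ⧸ p))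
  · intro h
    have hK : Ring.KrullDimLE 0 (G ⧸ Module.annihilator G M) := Ring.KrullDimLE.mk₀ fun q hq => by
      have h1 := h (q.comap (Ideal.Quotient.mk _)) inferInstance (fun c hc => by
        rw [Ideal.mem_comap, Ideal.Quotient.eq_zero_iff_mem.2 hc]; exact zero_mem q)
      rw [← Ideal.map_comap_of_surjective _ Ideal.Quotient.mk_surjective q]
      refine (Ideal.map_eq_top_or_isMaximal_of_surjective _ Ideal.Quotient.mk_surjective h1).resolve_left ?_
      rw [Ideal.map_comap_of_surjective _ Ideal.Quotient.mk_surjective q]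
      exact hq.ne_top
    have : IsArtinianRing (G ⧸ Module.annihilator G M) := isArtinianRing_iff_krullDimLE_zero.2 hK
    refine isFiniteLength_iff_isNoetherian_isArtinian.2 ⟨inferInstance, ?_⟩
    let _ : Module (G ⧸ Module.annihilator G M) M :=
      Module.IsTorsionBySet.module (I := Module.annihilator G M) (Module.isTorsionBySet_annihilator G M)
    have : IsScalarTower G (G ⧸ Module.annihilator G M) M :=
      Module.IsTorsionBySet.isScalarTower _
    have : Module.Finite (G ⧸ Module.annihilator G M) M := Module.Finite.of_restrictScalars_finite G _ M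
    have : IsArtinian (G ⧸ Module.annihilator G M) M := inferInstance
    exact isArtinian_of_surjective_algebraMap (R := G ⧸ Module.annihilator G M)
      (by rw [Ideal.Quotient.algebraMap_eq]; exact Ideal.Quotient.mk_surjective)

section Connected

variable {k : Type u} [Field k] {G : Type u} [CommRing G] [Algebra k G]
  (𝒢 : ℕ → Submodule k G) [GradedAlgebra 𝒢] (h0 : ∀ x ∈ 𝒢 0, x ∈ Set.range (algebraMap k G))
include h0

theorem finiteType_of_connected [IsNoetherianRing G] : Algebra.FiniteType k G := by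
  classical
  let S : Set G := ⋃ i > 0, (𝒢 i : Set G)
  have hS : (HomogeneousIdeal.irrelevant 𝒢).toIdeal = Ideal.span S :=
    HomogeneousIdeal.irrelevant_eq_span 𝒢
  obtain ⟨T, hTS, hT⟩ := (Submodule.fg_span_iff_fg_span_finset_subset (R := G) S).1
    (IsNoetherian.noetherian _)
  choose deg hdeg hmem using fun b : T => Set.mem_iUnion₂.1 (hTS b.2)
  have key : ∀ n, ∀ x ∈ 𝒢 n, x ∈ Algebra.adjoin k (T : Set G) := by
    intro n
    induction n using Nat.strong_induction_on with
    | _ n ih =>
      intro x hx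
      rcases Nat.eq_zero_or_pos n with rfl | hn
      · obtain ⟨a, rfl⟩ := h0 x hx
        exact Subalgebra.algebraMap_mem _ a
      have hxT : x ∈ Submodule.span G (Set.range fun b : T => (b : G)) := by
        rw [show (Set.range fun b : T => (b : G)) = (T : Set G) from Subtype.range_coe, ← hT]
        exact Submodule.subset_span (Set.mem_iUnion₂.2 ⟨n, hn, hx⟩)
      obtain ⟨c, hc⟩ := (Submodule.mem_span_range_iff_exists_fun G).1 hxT
      rw [← DirectSum.decompose_of_mem_same 𝒢 hx, ← hc, DirectSum.decompose_sum, DFinsupp.finsetSum_apply,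
        AddSubmonoidClass.coe_finsetSum]
      refine Subalgebra.sum_mem _ fun b _ => ?_
      rw [smul_eq_mul, DirectSum.coe_decompose_mul_of_right_mem 𝒢 n (hmem b)]
      split_ifs with hle
      · exact Subalgebra.mul_mem _ (ih _ (Nat.sub_lt hn (hdeg b)) _ (SetLike.coe_mem _))
          (Algebra.subset_adjoin b.2)
      · exact Subalgebra.zero_mem _
  refine ⟨⟨T, ?_⟩⟩
  rw [eq_top_iff]
  intro x _
  rw [← DirectSum.sum_support_decompose 𝒢 x]
  exact Subalgebra.sum_mem _ fun i _ => key i _ (SetLike.coe_mem _)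

theorem irrelevant_isMaximal [Nontrivial G] :
    (HomogeneousIdeal.irrelevant 𝒢).toIdeal.IsMaximal := by
  rw [Ideal.isMaximal_iff]
  refine ⟨fun h1 => ?_, fun J x hle hx hxJ => ?_⟩
  · rw [HomogeneousIdeal.mem_iff, HomogeneousIdeal.mem_irrelevant_iff, GradedRing.proj_apply,
      DirectSum.decompose_of_mem_same 𝒢 (SetLike.one_mem_graded 𝒢)] at h1
    exact one_ne_zero h1
  · obtain ⟨a, ha⟩ := h0 _ (DirectSum.decompose 𝒢 x 0).2
    have ha0 : a ≠ 0 := fun h => hx (by
      rw [HomogeneousIdeal.mem_iff, HomogeneousIdeal.mem_irrelevant_iff, GradedRing.proj_apply, ← ha,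
        h, map_zero])
    have h1 : x - algebraMap k G a ∈ J := hle (by
      rw [HomogeneousIdeal.mem_iff, HomogeneousIdeal.mem_irrelevant_iff, GradedRing.proj_apply, ha,
        DirectSum.decompose_sub, DirectSum.sub_apply, AddSubgroupClass.coe_sub,
        DirectSum.decompose_of_mem_same 𝒢 (DirectSum.decompose 𝒢 x 0).2, sub_self])
    have h2 : algebraMap k G a ∈ J := by
      have := sub_mem hxJ h1
      rwa [sub_sub_cancel] at this
    have h3 := Ideal.mul_mem_left J (algebraMap k G a⁻¹) h2
    rwa [← map_mul, inv_mul_cancel₀ ha0, map_one] at h3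

theorem le_irrelevant_of_homogeneous {p : Ideal G} (hp : p.IsHomogeneous 𝒢) (hne : p ≠ ⊤) :
    p ≤ (HomogeneousIdeal.irrelevant 𝒢).toIdeal := by
  intro x hx
  rw [HomogeneousIdeal.mem_iff, HomogeneousIdeal.mem_irrelevant_iff, GradedRing.proj_apply]
  by_contra hx0
  obtain ⟨a, ha⟩ := h0 _ (DirectSum.decompose 𝒢 x 0).2
  have ha0 : a ≠ 0 := fun h => hx0 (by rw [← ha, h, map_zero])
  have h1 := hp 0 hx
  rw [← ha] at h1
  exact hne (Ideal.eq_top_of_isUnit_mem _ h1 ((isUnit_iff_ne_zero.2 ha0).map _))

end Connected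

end Groth.Agent.FiltBl13
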