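import Groth.Agent.FiltBl13.GradedClosure
import Groth.Agent.LC15.DepthSeq
import Groth.Agent.LC15.Gamma
import Groth.Agent.E4O.DimField
import Groth.Agent.S14359

/-!
`Ḡ/G ≅ H¹_{G₊}(G)` for a connected graded domain with `Ḡ/G` of finite length: the inputs.
-/

set_option autoImplicit false

universe u

open RingTheory.Sequence
open scoped Pointwise

namespace Groth.Agent.FiltBl13

theorem exists_pow_irrelevant_le_annihilator {k : Type u} [Field k] {G : Type u} [CommRing G]
    [Algebra k G] (𝒢 : ℕ → Submodule k G) [GradedAlgebra 𝒢]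
    (h0 : ∀ x ∈ 𝒢 0, x ∈ Set.range (algebraMap k G)) [IsNoetherianRing G]
    (M : Type u) [AddCommGroup M] [Module G M] [Module.Finite G M] (hM : IsFiniteLength G M)
    (hC : (Module.annihilator G M).IsHomogeneous 𝒢) :
    ∃ N : ℕ, (HomogeneousIdeal.irrelevant 𝒢).toIdeal ^ N ≤ Module.annihilator G M := by
  refine Ideal.exists_pow_le_of_le_radical_of_fg ?_ (IsNoetherian.noetherian _)
  rw [Ideal.radical_eq_sInf]
  refine le_sInf fun p hp => ?_
  obtain ⟨hle, hpp⟩ := hp
  have hcore : (p.homogeneousCore 𝒢).toIdeal.IsPrime := hpp.homogeneousCore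
  have hCcore : Module.annihilator G M ≤ (p.homogeneousCore 𝒢).toIdeal :=
    hC.toIdeal_homogeneousCore_eq_self.symm.trans_le (Ideal.homogeneousCore_mono _ hle)
  have hmax := (isFiniteLength_iff_annihilator M).1 hM _ hcore hCcore
  have hirr : (HomogeneousIdeal.irrelevant 𝒢).toIdeal ≠ ⊤ := fun htop => by
    have : Nontrivial G := by
      by_contra hn
      rw [not_nontrivial_iff_subsingleton] at hn
      exact hcore.ne_top (Subsingleton.elim _ _)
    exact (irrelevant_isMaximal 𝒢 h0).ne_top htop
  rw [← hmax.eq_of_le hirr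
    (le_irrelevant_of_homogeneous 𝒢 h0 (HomogeneousIdeal.isHomogeneous _) hcore.ne_top)]
  exact Ideal.toIdeal_homogeneousCore_le 𝒢 p

variable (k : Type u) [Field k] {G : Type u} [CommRing G] [IsDomain G] [Algebra k G]
  [Algebra.FiniteType k G]
  {B : Type u} [CommRing B] [IsDomain B] [Algebra G B] [FaithfulSMul G B] [Module.Finite G B]

include k in
/-- Primes of a finite extension lying over a maximal ideal have height the dimension. -/
theorem ringKrullDim_eq_height_of_comap_maximal (P : Ideal B) [P.IsPrime]
    (hP : (P.comap (algebraMap G B)).IsMaximal) : ringKrullDim G = P.height := by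
  let _ : Algebra k B := ((algebraMap G B).comp (algebraMap k G)).toAlgebra
  have : IsScalarTower k G B := IsScalarTower.of_algebraMap_eq fun _ => rfl
  have : Algebra.FiniteType k B := (‹Algebra.FiniteType k G›).trans (inferInstance : Algebra.FiniteType G B)
  have : Algebra.IsIntegral G B := Algebra.IsIntegral.of_finite G B
  have : P.IsMaximal := Ideal.isMaximal_of_isIntegral_of_isMaximal_comap P hP
  have : Algebra.IsAlgebraic G B := Algebra.IsIntegral.isAlgebraic
  have htr : Algebra.trdeg k B = Algebra.trdeg k G := by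
    rw [← trdeg_add_eq k G (A := B), trdeg_eq_zero (R := G) (A := B), add_zero]
  rw [E4O.ringKrullDim_eq_trdeg k G, E4O.height_maximal_eq k B P, htr]
  rfl

include k in
/-- A normal finite extension of an affine domain of dimension `≥ 2` has a regular sequence of
length two inside any maximal ideal of the base. -/
theorem exists_weaklyRegular_pair [IsIntegrallyClosed B] (hdim : 2 ≤ ringKrullDim G)
    (m : Ideal G) [hm : m.IsMaximal] (x : G) (hx : x ≠ 0) :
    ∃ y ∈ m, IsWeaklyRegular B [x, y] := by
  have hG : IsNoetherianRing G := Algebra.FiniteType.isNoetherianRing k G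
  have : IsNoetherianRing B := IsNoetherianRing.of_finite G B
  have hxB : algebraMap G B x ≠ 0 :=
    (map_ne_zero_iff _ (FaithfulSMul.algebraMap_injective G B)).2 hx
  let N := B ⧸ Ideal.span {algebraMap G B x}
  let S := associatedPrimes B N
  have hfin : S.Finite := associatedPrimes.finite B N
  have hnot : ¬ (m : Set G) ⊆ ⋃ P ∈ S, (P.comap (algebraMap G B) : Set G) := by
    rw [Ideal.subset_union_prime_finite hfin (f := fun P => P.comap (algebraMap G B)) ⊥ ⊥
      fun P hP _ _ => by have := hP.isPrime; infer_instance]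
    rintro ⟨P, hP, hmP⟩
    have := hP.isPrime
    have hmax : (P.comap (algebraMap G B)).IsMaximal := by
      rw [← hm.eq_of_le (Ideal.IsPrime.ne_top inferInstance) hmP]; exact hm
    have h1 := S14359.result B _ hxB P hP
    rw [ringKrullDim_eq_height_of_comap_maximal k P hmax, h1] at hdim
    exact absurd hdim (by decide)
  obtain ⟨y, hym, hy⟩ := Set.not_subset.1 hnot
  refine ⟨y, hym, ?_⟩
  have hreg : IsSMulRegular N (algebraMap G B y) := by
    by_contra hnr
    have : algebraMap G B y ∈ ⋃ P ∈ S, (P : Set B) := by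
      rw [biUnion_associatedPrimes_eq_compl_regular]; exact hnr
    simp only [Set.mem_iUnion, SetLike.mem_coe] at this hy
    obtain ⟨P, hP, hyP⟩ := this
    exact hy ⟨P, hP, hyP⟩
  have hregx : IsSMulRegular B x := by
    intro a b hab
    simp only [Algebra.smul_def] at hab
    exact mul_left_cancel₀ hxB hab
  rw [isWeaklyRegular_cons_iff, isWeaklyRegular_singleton_iff]
  refine ⟨hregx, IsSMulRegular.of_right_eq_zero_of_smul fun q hq => ?_⟩
  induction q using Submodule.Quotient.induction_on with
  | _ b =>
    rw [← Submodule.Quotient.mk_smul, Submodule.Quotient.mk_eq_zero,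
      Submodule.mem_smul_pointwise_iff_exists] at hq
    obtain ⟨c, -, hc⟩ := hq
    have h2 : (Ideal.Quotient.mk (Ideal.span {algebraMap G B x}) b : N) = 0 := by
      refine hreg ?_
      simp only [smul_zero]
      refine Ideal.Quotient.eq_zero_iff_mem.2 (Ideal.mem_span_singleton.2 ⟨c, ?_⟩)
      simpa [Algebra.smul_def] using hc.symm
    rw [Submodule.Quotient.mk_eq_zero, Submodule.mem_smul_pointwise_iff_exists]
    obtain ⟨d, rfl⟩ := Ideal.mem_span_singleton.1 (Ideal.Quotient.eq_zero_iff_mem.1 h2)
    exact ⟨d, Submodule.mem_top, Algebra.smul_def x d⟩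

theorem subsingleton_H_one_of_weaklyRegular {G : Type u} [CommRing G] [IsNoetherianRing G] {M : Type u} [AddCommGroup M] [Module G M]
    (I : Ideal G) {x y : G} (hx : x ∈ I) (hy : y ∈ I) (h : IsWeaklyRegular M [x, y]) :
    ∀ i < 2, Subsingleton (LocCoh.H I i M) :=
  (LC15.H_vanishing_iff_ext_quotient I 2 M).2 fun i hi =>
    LC15.subsingleton_ext_of_weaklyRegular (k := 1)
      (by rw [pow_one]; exact eq_bot_iff.2 (Submodule.smul_le.2 fun a ha q _ => by
        induction q using Submodule.Quotient.induction_on with
        | _ b =>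
          rw [← Submodule.Quotient.mk_smul, Submodule.mem_bot, Submodule.Quotient.mk_eq_zero]
          exact I.mul_mem_right b ha))
      [x, y] M h (by simp [hx, hy]) i (by simpa using hi)

end Groth.Agent.FiltBl13
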