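import Groth.Agent.FiltBl13.Pure
import Mathlib.RingTheory.GradedAlgebra.HomogeneousLocalization
import Mathlib.RingTheory.GradedAlgebra.Radical
import Mathlib.RingTheory.Ideal.MinimalPrime.Colon
import Mathlib.AlgebraicGeometry.ProjectiveSpectrum.Basic

/-!
# The local rings of `Proj`: homogeneous localizations sit purely in the localization
-/

set_option autoImplicit false

universe u

open HomogeneousLocalization

namespace Groth.Agent.FiltBl13

variable {A : Type u} [CommRing A] (𝒜 : ℕ → AddSubgroup A) [GradedRing 𝒜]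
  (P : Ideal A) [P.IsPrime]

/-- the fraction `a / s` of homogeneous elements of the same degree -/
noncomputable def frac (n : ℕ) (a s : A) (ha : a ∈ 𝒜 n) (hs : s ∈ 𝒜 n) (hsP : s ∉ P) :
    HomogeneousLocalization.AtPrime 𝒜 P :=
  HomogeneousLocalization.mk ⟨n, ⟨a, ha⟩, ⟨s, hs⟩, hsP⟩

omit [GradedRing 𝒜] in
theorem exists_frac (y : HomogeneousLocalization.AtPrime 𝒜 P) :
    ∃ (n : ℕ) (a s : A) (ha : a ∈ 𝒜 n) (hs : s ∈ 𝒜 n) (hsP : s ∉ P),
      y = frac 𝒜 P n a s ha hs hsP := by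
  obtain ⟨c, rfl⟩ := HomogeneousLocalization.mk_surjective y
  exact ⟨c.deg, c.num, c.den, c.num.2, c.den.2, c.den_mem, rfl⟩

theorem val_frac {n : ℕ} {a s : A} (ha : a ∈ 𝒜 n) (hs : s ∈ 𝒜 n) (hsP : s ∉ P) :
    algebraMap _ (Localization.AtPrime P) (frac 𝒜 P n a s ha hs hsP) =
      Localization.mk a ⟨s, hsP⟩ := by
  rw [HomogeneousLocalization.algebraMap_apply]
  exact HomogeneousLocalization.val_mk _

omit [GradedRing 𝒜] in
theorem frac_eq_iff {n m : ℕ} {a s b t : A} (ha : a ∈ 𝒜 n) (hs : s ∈ 𝒜 n) (hsP : s ∉ P)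
    (hb : b ∈ 𝒜 m) (ht : t ∈ 𝒜 m) (htP : t ∉ P) :
    frac 𝒜 P n a s ha hs hsP = frac 𝒜 P m b t hb ht htP ↔ ∃ c ∉ P, c * (t * a) = c * (s * b) := by
  rw [HomogeneousLocalization.ext_iff_val]
  show (frac 𝒜 P n a s ha hs hsP).val = (frac 𝒜 P m b t hb ht htP).val ↔ _
  rw [show (frac 𝒜 P n a s ha hs hsP).val = Localization.mk a ⟨s, hsP⟩ from
      HomogeneousLocalization.val_mk _,
    show (frac 𝒜 P m b t hb ht htP).val = Localization.mk b ⟨t, htP⟩ from
      HomogeneousLocalization.val_mk _, Localization.mk_eq_mk_iff, Localization.r_iff_exists]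
  exact ⟨fun ⟨c, hc⟩ => ⟨c, c.2, hc⟩, fun ⟨c, hcP, hc⟩ => ⟨⟨c, hcP⟩, hc⟩⟩

theorem frac_mul {n m : ℕ} {a s b t : A} (ha : a ∈ 𝒜 n) (hs : s ∈ 𝒜 n) (hsP : s ∉ P)
    (hb : b ∈ 𝒜 m) (ht : t ∈ 𝒜 m) (htP : t ∉ P) :
    frac 𝒜 P n a s ha hs hsP * frac 𝒜 P m b t hb ht htP =
      frac 𝒜 P (n + m) (a * b) (s * t) (SetLike.mul_mem_graded ha hb) (SetLike.mul_mem_graded hs ht)
        (fun h => (‹P.IsPrime›.mem_or_mem h).elim hsP htP) := by
  apply HomogeneousLocalization.val_injective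
  rw [HomogeneousLocalization.val_mul]
  simp only [frac, HomogeneousLocalization.val_mk, Localization.mk_mul]
  rfl

theorem frac_self {n : ℕ} {s : A} (hs : s ∈ 𝒜 n) (hsP : s ∉ P) :
    frac 𝒜 P n s s hs hs hsP = 1 := by
  apply HomogeneousLocalization.val_injective
  rw [HomogeneousLocalization.val_one]
  simp only [frac, HomogeneousLocalization.val_mk]
  exact Localization.mk_self (⟨s, hsP⟩ : P.primeCompl)

theorem frac_zero {n : ℕ} {s : A} (hs : s ∈ 𝒜 n) (hsP : s ∉ P) :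
    frac 𝒜 P n 0 s (zero_mem _) hs hsP = 0 := by
  apply HomogeneousLocalization.val_injective
  rw [HomogeneousLocalization.val_zero]
  simp only [frac, HomogeneousLocalization.val_mk, Localization.mk_zero]

theorem frac_add {n : ℕ} {a b s : A} (ha : a ∈ 𝒜 n) (hb : b ∈ 𝒜 n) (hs : s ∈ 𝒜 n) (hsP : s ∉ P) :
    frac 𝒜 P n (a + b) s (add_mem ha hb) hs hsP =
      frac 𝒜 P n a s ha hs hsP + frac 𝒜 P n b s hb hs hsP := by
  apply HomogeneousLocalization.val_injective
  rw [HomogeneousLocalization.val_add]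
  simp only [frac, HomogeneousLocalization.val_mk, Localization.add_mk_self]

omit [GradedRing 𝒜] in
theorem frac_congr {n m : ℕ} {a s b t : A} (h1 : a = b) (h2 : s = t) (ha : a ∈ 𝒜 n) (hs : s ∈ 𝒜 n)
    (hsP : s ∉ P) (hb : b ∈ 𝒜 m) (ht : t ∈ 𝒜 m) (htP : t ∉ P) :
    frac 𝒜 P n a s ha hs hsP = frac 𝒜 P m b t hb ht htP := by
  subst h1 h2
  exact (frac_eq_iff 𝒜 P ha hs hsP hb ht htP).2 ⟨1, fun h => ‹P.IsPrime›.ne_top
    ((Ideal.eq_top_iff_one _).2 h), rfl⟩

/-- all ways of making a degree zero fraction out of `z` land in `J` -/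
def Good (J : Ideal (HomogeneousLocalization.AtPrime 𝒜 P)) (j : ℕ) (z : A) : Prop :=
  z ∈ 𝒜 j ∧ ∀ (i : ℕ) (b s : A) (h : b * z ∈ 𝒜 (i + j)) (_ : b ∈ 𝒜 i) (hs : s ∈ 𝒜 (i + j))
    (hsP : s ∉ P), frac 𝒜 P (i + j) (b * z) s h hs hsP ∈ J

variable {𝒜 P}

theorem good_zero (J : Ideal (HomogeneousLocalization.AtPrime 𝒜 P)) (j : ℕ) : Good 𝒜 P J j 0 :=
  ⟨zero_mem _, fun i b s h _ hs hsP => by
    rw [frac_congr 𝒜 P (mul_zero b) rfl h hs hsP (zero_mem _) hs hsP, frac_zero]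
    exact zero_mem J⟩

theorem Good.add {J : Ideal (HomogeneousLocalization.AtPrime 𝒜 P)} {j : ℕ} {z w : A}
    (hz : Good 𝒜 P J j z) (hw : Good 𝒜 P J j w) : Good 𝒜 P J j (z + w) :=
  ⟨add_mem hz.1 hw.1, fun i b s h hb hs hsP => by
    have h1 := SetLike.mul_mem_graded hb hz.1
    have h2 := SetLike.mul_mem_graded hb hw.1
    rw [frac_congr 𝒜 P (mul_add b z w) rfl h hs hsP (add_mem h1 h2) hs hsP,
      frac_add 𝒜 P h1 h2 hs hsP]
    exact add_mem (hz.2 i b s h1 hb hs hsP) (hw.2 i b s h2 hb hs hsP)⟩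

theorem Good.mul {J : Ideal (HomogeneousLocalization.AtPrime 𝒜 P)} {j k : ℕ} {z c : A}
    (hc : c ∈ 𝒜 k) (hz : Good 𝒜 P J j z) : Good 𝒜 P J (k + j) (c * z) :=
  ⟨SetLike.mul_mem_graded hc hz.1, fun i b s h hb hs hsP => by
    have h1 : b * c * z ∈ 𝒜 (i + k + j) :=
      SetLike.mul_mem_graded (SetLike.mul_mem_graded hb hc) hz.1
    have hs' : s ∈ 𝒜 (i + k + j) := by rwa [add_assoc]
    rw [frac_congr 𝒜 P (mul_assoc b c z).symm rfl h hs hsP h1 hs' hsP]
    exact hz.2 (i + k) (b * c) s h1 (SetLike.mul_mem_graded hb hc) hs' hsP⟩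

variable (𝒜 P) in
/-- the homogeneous ideal of `A` attached to an ideal of the homogeneous localization -/
noncomputable def hat (J : Ideal (HomogeneousLocalization.AtPrime 𝒜 P)) : Ideal A where
  carrier := {z | ∀ j, Good 𝒜 P J j (DirectSum.decompose 𝒜 z j : A)}
  zero_mem' j := by simp [good_zero]
  add_mem' {z w} hz hw j := by
    rw [DirectSum.decompose_add, DirectSum.add_apply, AddMemClass.coe_add]
    exact (hz j).add (hw j)
  smul_mem' c z hz := by
    classical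
    induction c using DirectSum.Decomposition.inductionOn 𝒜 with
    | zero => intro j; simp [good_zero]
    | @homogeneous k c =>
      intro j
      rw [smul_eq_mul, DirectSum.coe_decompose_mul_of_left_mem 𝒜 j c.2]
      split_ifs with hkj
      · have h := (hz (j - k)).mul c.2
        rwa [Nat.add_sub_cancel' hkj] at h
      · exact good_zero J j
    | add a b ha hb =>
      intro j
      rw [add_smul, DirectSum.decompose_add, DirectSum.add_apply, AddMemClass.coe_add]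
      exact (ha j).add (hb j)

theorem mem_hat_of_mem {J : Ideal (HomogeneousLocalization.AtPrime 𝒜 P)} {n : ℕ} {a : A}
    (h : Good 𝒜 P J n a) : a ∈ hat 𝒜 P J := by
  intro j
  by_cases hj : n = j
  · subst hj; rwa [DirectSum.decompose_of_mem_same 𝒜 h.1]
  · rw [DirectSum.decompose_of_mem_ne 𝒜 h.1 hj]; exact good_zero J j

theorem good_of_mem_hat {J : Ideal (HomogeneousLocalization.AtPrime 𝒜 P)} {n : ℕ} {a : A}
    (ha : a ∈ 𝒜 n) (h : a ∈ hat 𝒜 P J) : Good 𝒜 P J n a := by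
  have h1 := h n
  rwa [DirectSum.decompose_of_mem_same 𝒜 ha] at h1

theorem num_mem_hat_iff (J : Ideal (HomogeneousLocalization.AtPrime 𝒜 P)) {n : ℕ} {a s : A}
    (ha : a ∈ 𝒜 n) (hs : s ∈ 𝒜 n) (hsP : s ∉ P) :
    a ∈ hat 𝒜 P J ↔ frac 𝒜 P n a s ha hs hsP ∈ J := by
  constructor
  · intro h
    have h0 : (1 : A) ∈ 𝒜 0 := SetLike.one_mem_graded 𝒜
    have h1 : (1 : A) * a ∈ 𝒜 (0 + n) := by rwa [one_mul, zero_add]
    have hs' : s ∈ 𝒜 (0 + n) := by rwa [zero_add]
    rw [frac_congr 𝒜 P (one_mul a).symm rfl ha hs hsP h1 hs' hsP]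
    exact (good_of_mem_hat ha h).2 0 1 s h1 h0 hs' hsP
  · intro h
    refine mem_hat_of_mem ⟨ha, fun i b t h1 hb ht htP => ?_⟩
    have key : frac 𝒜 P (i + n) (b * a) t h1 ht htP =
        frac 𝒜 P (i + n) (b * s) t (SetLike.mul_mem_graded hb hs) ht htP *
          frac 𝒜 P n a s ha hs hsP := by
      rw [frac_mul, frac_eq_iff]
      exact ⟨1, fun hh => ‹P.IsPrime›.ne_top ((Ideal.eq_top_iff_one _).2 hh), by ring⟩
    rw [key]
    exact Ideal.mul_mem_left _ _ h

theorem map_le_hat_map (J : Ideal (HomogeneousLocalization.AtPrime 𝒜 P)) :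
    J.map (algebraMap _ (Localization.AtPrime P)) ≤
      (hat 𝒜 P J).map (algebraMap A (Localization.AtPrime P)) := by
  rw [Ideal.map_le_iff_le_comap]
  intro y hy
  obtain ⟨n, a, s, ha, hs, hsP, rfl⟩ := exists_frac 𝒜 P y
  rw [Ideal.mem_comap, val_frac, Localization.mk_eq_mk', IsLocalization.mk'_eq_mul_mk'_one]
  exact Ideal.mul_mem_right _ _ (Ideal.mem_map_of_mem _ ((num_mem_hat_iff J ha hs hsP).2 hy))

omit [P.IsPrime] in
theorem exists_component_notMem {t : A} (h : t ∉ P) :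
    ∃ k, (DirectSum.decompose 𝒜 t k : A) ∉ P := by
  classical
  by_contra hno
  push Not at hno
  apply h
  rw [← DirectSum.sum_support_decompose 𝒜 t]
  exact Submodule.sum_mem _ fun k _ => hno k

/-- ideals of the homogeneous localization contract back from the localization -/
theorem comap_map_algebraMap (J : Ideal (HomogeneousLocalization.AtPrime 𝒜 P)) :
    (J.map (algebraMap _ (Localization.AtPrime P))).comap
      (algebraMap _ (Localization.AtPrime P)) = J := by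
  classical
  refine le_antisymm (fun y hy => ?_) Ideal.le_comap_map
  obtain ⟨n, a, s, ha, hs, hsP, rfl⟩ := exists_frac 𝒜 P y
  have h1 := map_le_hat_map J hy
  rw [val_frac, Localization.mk_eq_mk', IsLocalization.mk'_mem_iff,
    IsLocalization.algebraMap_mem_map_algebraMap_iff P.primeCompl] at h1
  obtain ⟨t, htP, ht⟩ := h1
  obtain ⟨k, hk⟩ := exists_component_notMem (𝒜 := 𝒜) (P := P) (t := t) htP
  have hcomp : ((DirectSum.decompose 𝒜 t k : A) * a) ∈ hat 𝒜 P J := by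
    have h2 := ht (k + n)
    rw [DirectSum.coe_decompose_mul_add_of_right_mem 𝒜 ha] at h2
    exact mem_hat_of_mem h2
  have hk' : (DirectSum.decompose 𝒜 t k : A) ∈ 𝒜 k := SetLike.coe_mem _
  have hsP' : (DirectSum.decompose 𝒜 t k : A) * s ∉ P :=
    fun h => (‹P.IsPrime›.mem_or_mem h).elim hk hsP
  have h3 := (num_mem_hat_iff J (SetLike.mul_mem_graded hk' ha) (SetLike.mul_mem_graded hk' hs)
    hsP').1 hcomp
  rwa [← frac_mul 𝒜 P hk' hk' hk ha hs hsP, frac_self, one_mul] at h3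

theorem isNoetherianRing_atPrime [IsNoetherianRing A] :
    IsNoetherianRing (HomogeneousLocalization.AtPrime 𝒜 P) :=
  haveI := noeth_loc P
  isNoetherianRing_of_pure (B := Localization.AtPrime P) _ comap_map_algebraMap

section Relevant

variable {d : ℕ} {f : A} (hd : 0 < d) (hf : f ∈ 𝒜 d) (hfP : f ∉ P)
include hd hf hfP

omit [GradedRing 𝒜] hd hf in
theorem pow_notMem (n : ℕ) : f ^ n ∉ P := fun h => hfP (‹P.IsPrime›.mem_of_pow_mem n h)

/-- for a prime `q` membership in `hat q` is read off from `z ^ d / f ^ j` -/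
theorem mem_hat_iff_pow {q : Ideal (HomogeneousLocalization.AtPrime 𝒜 P)} [q.IsPrime] {j : ℕ}
    {z : A} (hz : z ∈ 𝒜 j) :
    z ∈ hat 𝒜 P q ↔ frac 𝒜 P (j * d) (z ^ d) (f ^ j)
      (by simpa [mul_comm] using SetLike.pow_mem_graded d hz)
      (by simpa using SetLike.pow_mem_graded j hf) (pow_notMem hfP j) ∈ q := by
  have hfj : f ^ j ∈ 𝒜 (j * d) := by simpa using SetLike.pow_mem_graded j hf
  obtain ⟨e, rfl⟩ : ∃ e, d = e + 1 := ⟨d - 1, by omega⟩
  constructor
  · intro h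
    have hb : z ^ e ∈ 𝒜 (j * e) := by simpa [mul_comm] using SetLike.pow_mem_graded e hz
    have hfj' : f ^ j ∈ 𝒜 (j * e + j) := by rwa [← mul_add_one]
    have h1 := (good_of_mem_hat hz h).2 (j * e) (z ^ e) (f ^ j) (SetLike.mul_mem_graded hb hz) hb
      hfj' (pow_notMem hfP j)
    convert h1 using 1
    exact frac_congr 𝒜 P (pow_succ z e) rfl _ _ _ _ _ _
  · intro h
    refine mem_hat_of_mem ⟨hz, fun i b s h1 hb hs hsP => ‹q.IsPrime›.mem_of_pow_mem (e + 1) ?_⟩
    have hzd : z ^ (e + 1) ∈ 𝒜 (j * (e + 1)) := by simpa [mul_comm] using SetLike.pow_mem_graded (e + 1) hz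
    have hpow : ∀ (x : A) (hx : x ∈ 𝒜 (i + j)), x ^ (e + 1) ∈ 𝒜 ((e + 1) * (i + j)) :=
      fun x hx => by simpa using SetLike.pow_mem_graded (e + 1) hx
    have hsP' : s ^ (e + 1) ∉ P := fun h => hsP (‹P.IsPrime›.mem_of_pow_mem _ h)
    have hb' : b ^ (e + 1) * f ^ j ∈ 𝒜 ((e + 1) * (i + j)) := by
      have := SetLike.mul_mem_graded
        (show b ^ (e + 1) ∈ 𝒜 ((e + 1) * i) by simpa using SetLike.pow_mem_graded (e + 1) hb) hfj
      rwa [mul_comm j (e + 1), ← mul_add] at this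
    have key : frac 𝒜 P (i + j) (b * z) s h1 hs hsP ^ (e + 1) =
        frac 𝒜 P ((e + 1) * (i + j)) (b ^ (e + 1) * f ^ j) (s ^ (e + 1)) hb' (hpow s hs) hsP' *
          frac 𝒜 P (j * (e + 1)) (z ^ (e + 1)) (f ^ j) hzd hfj (pow_notMem hfP j) := by
      apply HomogeneousLocalization.val_injective
      rw [HomogeneousLocalization.val_pow, HomogeneousLocalization.val_mul]
      simp only [frac, HomogeneousLocalization.val_mk, Localization.mk_mul, Localization.mk_pow]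
      rw [Localization.mk_eq_mk_iff, Localization.r_iff_exists]
      refine ⟨1, ?_⟩
      simp only [Submonoid.coe_mul, SubmonoidClass.coe_pow, OneMemClass.coe_one]
      ring
    rw [key]
    exact Ideal.mul_mem_left _ _ h

theorem hat_isPrime (q : Ideal (HomogeneousLocalization.AtPrime 𝒜 P)) [q.IsPrime] :
    (hat 𝒜 P q).IsPrime := by
  have hhom : (hat 𝒜 P q).IsHomogeneous 𝒜 := fun i z hz => mem_hat_of_mem (hz i)
  refine hhom.isPrime_of_homogeneous_mem_or_mem ?_ ?_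
  · intro htop
    have h1 : (1 : A) ∈ hat 𝒜 P q := htop ▸ Submodule.mem_top
    have h2 := (num_mem_hat_iff q (SetLike.one_mem_graded 𝒜) (SetLike.one_mem_graded 𝒜)
      (fun h => ‹P.IsPrime›.ne_top ((Ideal.eq_top_iff_one _).2 h))).1 h1
    rw [frac_self] at h2
    exact ‹q.IsPrime›.ne_top ((Ideal.eq_top_iff_one _).2 h2)
  · rintro x y ⟨j, hx⟩ ⟨l, hy⟩ hxy
    rw [mem_hat_iff_pow hd hf hfP hx, mem_hat_iff_pow hd hf hfP hy]
    rw [mem_hat_iff_pow hd hf hfP (SetLike.mul_mem_graded hx hy)] at hxy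
    refine ‹q.IsPrime›.mem_or_mem ?_
    rw [frac_mul]
    convert hxy using 1
    exact frac_congr 𝒜 P (mul_pow x y d).symm (pow_add f j l).symm _ _ _ _ _ _

omit hd hf hfP in
theorem hat_le (q : Ideal (HomogeneousLocalization.AtPrime 𝒜 P))
    (hq : q ≠ ⊤) : hat 𝒜 P q ≤ P := by
  classical
  intro z hz
  rw [← DirectSum.sum_support_decompose 𝒜 z]
  refine Submodule.sum_mem _ fun j _ => ?_
  by_contra hj
  have h1 := (num_mem_hat_iff q (SetLike.coe_mem _) (SetLike.coe_mem _) hj).1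
    (mem_hat_of_mem (hz j))
  rw [frac_self] at h1
  exact hq ((Ideal.eq_top_iff_one _).2 h1)

omit hd hf hfP in
theorem frac_mem_maximalIdeal_iff {n : ℕ} {a s : A} (ha : a ∈ 𝒜 n) (hs : s ∈ 𝒜 n) (hsP : s ∉ P) :
    frac 𝒜 P n a s ha hs hsP ∈ IsLocalRing.maximalIdeal _ ↔ a ∈ P := by
  rw [IsLocalRing.mem_maximalIdeal, mem_nonunits_iff, ← isUnit_iff_isUnit_val]
  show ¬IsUnit (HomogeneousLocalization.val _) ↔ _
  rw [show (frac 𝒜 P n a s ha hs hsP).val = Localization.mk a ⟨s, hsP⟩ from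
      HomogeneousLocalization.val_mk _, Localization.mk_eq_mk',
    IsLocalization.AtPrime.isUnit_mk'_iff (Localization.AtPrime P) P, Ideal.mem_primeCompl_iff,
    Classical.not_not]

theorem maximalIdeal_le_radical (hP : P.IsHomogeneous 𝒜) :
    IsLocalRing.maximalIdeal (Localization.AtPrime P) ≤
      ((IsLocalRing.maximalIdeal (HomogeneousLocalization.AtPrime 𝒜 P)).map
        (algebraMap _ (Localization.AtPrime P))).radical := by
  classical
  rw [← Localization.AtPrime.map_eq_maximalIdeal, Ideal.map_le_iff_le_comap]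
  intro z hz
  rw [← DirectSum.sum_support_decompose 𝒜 z]
  refine Submodule.sum_mem _ fun j _ => ?_
  have hzj : (DirectSum.decompose 𝒜 z j : A) ∈ P := hP j hz
  generalize hw : (DirectSum.decompose 𝒜 z j : A) = w at hzj ⊢
  have hwj : w ∈ 𝒜 j := hw ▸ SetLike.coe_mem _
  rw [Ideal.mem_comap]
  refine ⟨d, ?_⟩
  have hwd : w ^ d ∈ 𝒜 (j * d) := by simpa [mul_comm] using SetLike.pow_mem_graded d hwj
  have hfj : f ^ j ∈ 𝒜 (j * d) := by simpa using SetLike.pow_mem_graded j hf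
  have hmem : frac 𝒜 P (j * d) (w ^ d) (f ^ j) hwd hfj (pow_notMem hfP j) ∈
      IsLocalRing.maximalIdeal _ :=
    (frac_mem_maximalIdeal_iff hwd hfj _).2 (Ideal.pow_mem_of_mem P hzj d hd)
  have h1 := Ideal.mem_map_of_mem (algebraMap _ (Localization.AtPrime P)) hmem
  rw [val_frac, Localization.mk_eq_mk'] at h1
  rw [← map_pow]
  exact IsLocalization.mk'_mem_iff.1 h1

theorem noEmbedded_atPrime [IsNoetherianRing A]
    (hA : LocCoh.HasSk 1 A A) : LocCoh.HasSk 1 (HomogeneousLocalization.AtPrime 𝒜 P)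
      (HomogeneousLocalization.AtPrime 𝒜 P) := by
  classical
  have := isNoetherianRing_atPrime (𝒜 := 𝒜) (P := P)
  rw [← CAlg1.noEmbedded_iff_S1]
  intro q hq
  obtain ⟨hqp, y, hy⟩ := isAssociatedPrime_iff.1 hq
  obtain ⟨n, a, s, ha, hs, hsP, rfl⟩ := exists_frac 𝒜 P y
  have hQ := hat_isPrime hd hf hfP q
  have hQP := hat_le q hqp.ne_top
  let I : Ideal A := (⊥ : Submodule A A).colon {a}
  have hI : ∀ z, z ∈ I ↔ z * a = 0 := fun z => by
    simp only [I, Submodule.mem_colon_singleton, Submodule.mem_bot, smul_eq_mul]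
  have hmin : hat 𝒜 P q ∈ I.minimalPrimes := by
    refine ⟨⟨hQ, fun z hz j => ?_⟩, fun r ⟨hr, hIr⟩ hrQ z hz => ?_⟩
    · refine ⟨SetLike.coe_mem _, fun i b t h hb ht htP => ?_⟩
      have hza : (DirectSum.decompose 𝒜 z j : A) * a = 0 := by
        rw [← DirectSum.coe_decompose_mul_add_of_right_mem 𝒜 ha (i := j), (hI z).1 hz]
        simp
      rw [hy, Submodule.mem_colon_singleton, Submodule.mem_bot, smul_eq_mul, frac_mul,
        frac_congr 𝒜 P (show b * (DirectSum.decompose 𝒜 z j : A) * a = 0 by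
          rw [mul_assoc, hza, mul_zero]) rfl _ _ _ (zero_mem _) (SetLike.mul_mem_graded ht hs) _,
        frac_zero]
      exact fun h => (‹P.IsPrime›.mem_or_mem h).elim htP hsP
    · rw [← DirectSum.sum_support_decompose 𝒜 z]
      refine Submodule.sum_mem _ fun j _ => ?_
      have hzj : (DirectSum.decompose 𝒜 z j : A) ∈ 𝒜 j := SetLike.coe_mem _
      have h1 := (mem_hat_iff_pow hd hf hfP hzj).1 (mem_hat_of_mem (hz j))
      rw [hy, Submodule.mem_colon_singleton, Submodule.mem_bot, smul_eq_mul, frac_mul,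
        ← frac_zero 𝒜 P (SetLike.mul_mem_graded
          (show f ^ j ∈ 𝒜 (j * d) by simpa using SetLike.pow_mem_graded j hf) hs)
          (fun h => (‹P.IsPrime›.mem_or_mem h).elim (pow_notMem hfP j) hsP), frac_eq_iff] at h1
      obtain ⟨c, hcP, hc⟩ := h1
      simp only [mul_zero] at hc
      have h2 : c * (f ^ j * s) * (DirectSum.decompose 𝒜 z j : A) ^ d ∈ I := by
        rw [hI, ← hc]; ring
      rcases hr.mem_or_mem (hIr h2) with h3 | h3
      · exfalso
        rcases hr.mem_or_mem h3 with h4 | h4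
        · exact hcP (hQP (hrQ h4))
        · exact (‹P.IsPrime›.mem_or_mem (hQP (hrQ h4))).elim (pow_notMem hfP j) hsP
      · exact hr.mem_of_pow_mem d h3
  have hass : hat 𝒜 P q ∈ associatedPrimes A A :=
    isAssociatedPrime_iff.2 ⟨hQ, Submodule.exists_eq_colon_of_mem_minimalPrimes hmin⟩
  have hmin' := (CAlg1.noEmbedded_iff_S1 (R := A) (M := A)).2 hA _ hass
  refine ⟨⟨hqp, by simp [CAlg1.annihilator_self]⟩, fun q' ⟨hq', _⟩ hle y hy' => ?_⟩
  obtain ⟨m, b, t, hb, ht, htP, rfl⟩ := exists_frac 𝒜 P y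
  have hle' : hat 𝒜 P q' ≤ hat 𝒜 P q := fun z hz j =>
    ⟨(hz j).1, fun i b' s' h hb' hs' hsP' => hle ((hz j).2 i b' s' h hb' hs' hsP')⟩
  have heq := hmin'.2 ⟨hat_isPrime hd hf hfP q', by simp [CAlg1.annihilator_self]⟩ hle'
  exact (num_mem_hat_iff q' hb ht htP).1 (heq ((num_mem_hat_iff q hb ht htP).2 hy'))

end Relevant

theorem exists_pos_degree_notMem {𝒜 : ℕ → AddSubgroup A} [GradedRing 𝒜] (x : ProjectiveSpectrum 𝒜) :
    ∃ (d : ℕ) (f : A), 0 < d ∧ f ∈ 𝒜 d ∧ f ∉ x.asHomogeneousIdeal.toIdeal := by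
  classical
  obtain ⟨z, hz, hzP⟩ := SetLike.not_le_iff_exists.1 x.not_irrelevant_le
  by_contra hno
  push Not at hno
  apply hzP
  show z ∈ x.asHomogeneousIdeal.toIdeal
  rw [← DirectSum.sum_support_decompose 𝒜 z]
  refine Submodule.sum_mem _ fun k hk => ?_
  rcases Nat.eq_zero_or_pos k with rfl | hk0
  · rw [HomogeneousIdeal.mem_irrelevant_iff, GradedRing.proj_apply] at hz
    rw [hz]
    exact zero_mem _
  · exact hno k _ hk0 (SetLike.coe_mem _)

end Groth.Agent.FiltBl13
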