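import Groth.Agent.FiltBl13.LocalFacts

/-!
# Local extensions `S → B` in which ideals contract back (cyclically pure)
-/

set_option autoImplicit false

universe u

open IsLocalRing

namespace Groth.Agent.FiltBl13

open Groth.Agent.EGA4Alg4

theorem isNoetherianRing_of_pure {S B : Type u} [CommRing S] [CommRing B] [IsNoetherianRing B]
    (φ : S →+* B) (hpure : ∀ J : Ideal S, (J.map φ).comap φ = J) : IsNoetherianRing S := by
  have hinj : Function.Injective (fun J : Ideal S => J.map φ) :=
    Function.LeftInverse.injective (g := fun I : Ideal B => I.comap φ) hpure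
  have hmono : StrictMono (fun J : Ideal S => J.map φ) := fun I J h =>
    lt_of_le_of_ne (Ideal.map_mono h.le) (fun he => h.ne (hinj he))
  rw [isNoetherianRing_iff, isNoetherian_iff']
  exact hmono.wellFoundedGT

theorem injective_of_pure {S B : Type u} [CommRing S] [CommRing B]
    (φ : S →+* B) (hpure : ∀ J : Ideal S, (J.map φ).comap φ = J) : Function.Injective φ := by
  rw [RingHom.injective_iff_ker_eq_bot, RingHom.ker_eq_comap_bot]
  simpa using hpure ⊥

theorem isIntegrallyClosed_of_pure {S B : Type u} [CommRing S] [CommRing B] [IsDomain B]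
    [IsIntegrallyClosed B] [IsDomain S]
    (φ : S →+* B) (hpure : ∀ J : Ideal S, (J.map φ).comap φ = J) : IsIntegrallyClosed S := by
  have hφ := injective_of_pure φ hpure
  rw [isIntegrallyClosed_iff (FractionRing S)]
  intro z hz
  let L := FractionRing B
  have hinj : Function.Injective ((algebraMap B L).comp φ) :=
    (IsFractionRing.injective B L).comp hφ
  let ψ : FractionRing S →+* L := IsFractionRing.lift hinj
  have hψ : ∀ r, ψ (algebraMap S (FractionRing S) r) = algebraMap B L (φ r) :=
    fun r => IsFractionRing.lift_algebraMap _ r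
  obtain ⟨P, hP, hPz⟩ := hz
  have hint : IsIntegral B (ψ z) := by
    refine ⟨P.map φ, hP.map _, ?_⟩
    rw [Polynomial.eval₂_map]
    have h1 := congrArg ψ hPz
    rw [map_zero, Polynomial.hom_eval₂] at h1
    rwa [show ψ.comp (algebraMap S (FractionRing S)) = (algebraMap B L).comp φ
      from RingHom.ext hψ] at h1
  obtain ⟨w, hw⟩ := IsIntegrallyClosed.isIntegral_iff.1 hint
  obtain ⟨x, y, hy, rfl⟩ := IsFractionRing.div_surjective S z
  have hy0 : algebraMap B L (φ y) ≠ 0 :=
    (map_ne_zero_iff _ hinj).2 (nonZeroDivisors.ne_zero hy)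
  have hxy : φ x = w * φ y := by
    apply IsFractionRing.injective B L
    rw [map_mul, hw, map_div₀, hψ, hψ, div_mul_cancel₀ _ hy0]
  have hmem : x ∈ ((Ideal.span {y}).map φ).comap φ := by
    rw [Ideal.mem_comap, hxy]
    exact Ideal.mul_mem_left _ _ (Ideal.mem_map_of_mem _ (Ideal.mem_span_singleton_self y))
  rw [hpure] at hmem
  obtain ⟨c, rfl⟩ := Ideal.mem_span_singleton'.1 hmem
  refine ⟨c, ?_⟩
  rw [map_mul, mul_div_assoc, div_self, mul_one]
  exact IsFractionRing.to_map_ne_zero_of_mem_nonZeroDivisors hy

theorem cm_of_quotient_span {L : Type u} [CommRing L] [IsLocalRing L] [IsNoetherianRing L] {x : L}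
    (hx : x ∈ maximalIdeal L) (hnzd : x ∈ nonZeroDivisors L)
    (h : LocCoh.IsCohenMacaulayLocalRing (L ⧸ Ideal.span {x})) :
    LocCoh.IsCohenMacaulayLocalRing L := by
  have := h.toIsLocalRing
  have hreg : IsSMulRegular L x := fun a b hab => (mul_cancel_left_mem_nonZeroDivisors hnzd).1 hab
  have h1 := depth_quotSMulTop_add_one (M := L) hx hreg
  have h2 : LocCoh.depth L (QuotSMulTop x L) = LocCoh.depth L (L ⧸ Ideal.span {x}) := by
    refine depth_eq_of_equiv (Submodule.quotEquivOfEq _ _ ?_)
    rw [← Submodule.ideal_span_singleton_smul, smul_eq_mul, Ideal.mul_top]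
  rw [h2, CAlg1.depth_quotient_self] at h1
  rw [CAlg1.cmLocal_iff, ← h1,
    ← ringKrullDim_quotient_span_singleton_succ_eq_ringKrullDim_of_mem_nonZeroDivisors hnzd hx,
    WithBot.coe_add, WithBot.coe_one]
  exact add_le_add (CAlg1.cmLocal_iff.1 h) le_rfl

/-- a pure local extension by a Cohen-Macaulay ring with primary closed fibre -/
theorem cm_of_pure_aux (n : ℕ) : ∀ (S B : Type u) [CommRing S] [CommRing B] [IsLocalRing S]
    [IsLocalRing B] (φ : S →+* B), LocCoh.IsCohenMacaulayLocalRing B → ringKrullDim B = n →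
    (∀ J : Ideal S, (J.map φ).comap φ = J) →
    maximalIdeal B ≤ ((maximalIdeal S).map φ).radical →
    LocCoh.IsCohenMacaulayLocalRing S := by
  induction n with
  | zero =>
    intro S B _ _ _ _ φ hB hdim hpure hrad
    have : IsNoetherianRing B := hB.toIsNoetherian
    have := isNoetherianRing_of_pure φ hpure
    have hφ := injective_of_pure φ hpure
    have : Ring.KrullDimLE 0 B := Ring.krullDimLE_iff.2 hdim.le
    rw [CAlg1.cmLocal_iff]
    refine le_trans ?_ (WithBot.coe_le_coe.2 zero_le)
    have : Ring.KrullDimLE 0 S := Ring.KrullDimLE.mk₀ fun p hp => by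
      have hle : maximalIdeal S ≤ p := fun s hs => by
        have h1 : φ s ∈ maximalIdeal B := by
          have h2 : (maximalIdeal S).map φ ≤ maximalIdeal B := IsLocalRing.le_maximalIdeal fun htop =>
            (maximalIdeal.isMaximal S).ne_top (by rw [← hpure (maximalIdeal S), htop, Ideal.comap_top])
          exact h2 (Ideal.mem_map_of_mem _ hs)
        obtain ⟨k, hk⟩ := (Ring.KrullDimLE.isNilpotent_iff_mem_maximalIdeal (x := φ s)).2 h1
        rw [← map_pow] at hk
        exact hp.mem_of_pow_mem k (by rw [hφ (hk.trans (map_zero φ).symm)]; exact zero_mem p)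
      exact le_antisymm (IsLocalRing.le_maximalIdeal hp.ne_top) hle ▸ maximalIdeal.isMaximal S
    exact Ring.krullDimLE_iff.1 this
  | succ n ih =>
    intro S B _ _ _ _ φ hB hdim hpure hrad
    have : IsNoetherianRing B := hB.toIsNoetherian
    have := isNoetherianRing_of_pure φ hpure
    have hφ := injective_of_pure φ hpure
    obtain ⟨x, hx, hreg⟩ : ∃ x ∈ maximalIdeal S, IsSMulRegular B (φ x) := by
      by_contra hno
      push Not at hno
      have hsub : ((maximalIdeal S : Ideal S) : Set S) ⊆
          ⋃ p ∈ associatedPrimes B B, ((p.comap φ : Ideal S) : Set S) := fun s hs => by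
        have h1 : φ s ∈ ⋃ p ∈ associatedPrimes B B, ((p : Ideal B) : Set B) := by
          rw [biUnion_associatedPrimes_eq_compl_regular]
          exact hno s hs
        simpa using h1
      obtain ⟨p, hp, hle⟩ := (Ideal.subset_union_prime_finite (associatedPrimes.finite B B)
        (f := fun p => p.comap φ) ⊥ ⊥ (fun p hp _ _ => by
          have := IsAssociatedPrime.isPrime hp
          infer_instance)).1 hsub
      have := IsAssociatedPrime.isPrime hp
      have hpm : p = maximalIdeal B := le_antisymm (IsLocalRing.le_maximalIdeal this.ne_top)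
        (hrad.trans ((Ideal.IsPrime.radical_le_iff this).2 (Ideal.map_le_iff_le_comap.2 hle)))
      have h0 : LocCoh.depth B B = 0 := depth_eq_zero_iff.2 (hpm ▸ hp)
      have h1 := CAlg1.cmLocal_iff.1 hB
      rw [hdim, h0] at h1
      have : ((n + 1 : ℕ) : ℕ∞) ≤ 0 := by exact_mod_cast h1
      simp at this
    have hnzB : φ x ∈ nonZeroDivisors B := mem_nonZeroDivisors_iff_right.2 fun b hb =>
      hreg (show φ x * b = φ x * 0 by rw [mul_zero, mul_comm, hb])
    have hnzS : x ∈ nonZeroDivisors S := mem_nonZeroDivisors_iff_right.2 fun a ha => hφ (by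
      rw [map_zero]
      exact mem_nonZeroDivisors_iff_right.1 hnzB _ (by rw [← map_mul, ha, map_zero]))
    have hxB : φ x ∈ maximalIdeal B := by
      rw [IsLocalRing.mem_maximalIdeal, mem_nonunits_iff]
      intro hu
      have h1 : (1 : S) ∈ ((Ideal.span {x}).map φ).comap φ := by
        rw [Ideal.mem_comap, map_one, Ideal.map_span, Set.image_singleton,
          Ideal.span_singleton_eq_top.2 hu]
        trivial
      rw [hpure] at h1
      exact (maximalIdeal.isMaximal S).ne_top ((Ideal.eq_top_iff_one _).2
        ((Ideal.span_singleton_le_iff_mem _).2 hx h1))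
    refine cm_of_quotient_span hx hnzS ?_
    let S' := S ⧸ Ideal.span {x}
    let B' := B ⧸ Ideal.span {φ x}
    have : Nontrivial S' := Ideal.Quotient.nontrivial_iff.2 (ne_top_of_le_ne_top
      (maximalIdeal.isMaximal S).ne_top ((Ideal.span_singleton_le_iff_mem _).2 hx))
    have : Nontrivial B' := Ideal.Quotient.nontrivial_iff.2 (ne_top_of_le_ne_top
      (maximalIdeal.isMaximal B).ne_top ((Ideal.span_singleton_le_iff_mem _).2 hxB))
    have : IsLocalRing S' :=
      IsLocalRing.of_surjective' (Ideal.Quotient.mk _) Ideal.Quotient.mk_surjective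
    have : IsLocalRing B' :=
      IsLocalRing.of_surjective' (Ideal.Quotient.mk _) Ideal.Quotient.mk_surjective
    let φ' : S' →+* B' := Ideal.quotientMap (Ideal.span {φ x}) φ (by
      rw [Ideal.span_singleton_le_iff_mem, Ideal.mem_comap]
      exact Ideal.mem_span_singleton_self _)
    have hcomp : φ'.comp (Ideal.Quotient.mk (Ideal.span {x})) =
        (Ideal.Quotient.mk (Ideal.span {φ x})).comp φ :=
      RingHom.ext fun s => rfl
    have hB' : LocCoh.IsCohenMacaulayLocalRing B' := by
      have h1 := Desc59.SyntomicCM.cmLocal_quotient hB [φ x] (by simpa using hxB)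
        ((RingTheory.Sequence.isWeaklyRegular_singleton_iff B (φ x)).2 hreg)
      rwa [Ideal.ofList_singleton] at h1
    refine ih S' B' φ' hB' ?_ ?_ ?_
    · have h1 := ringKrullDim_quotient_span_singleton_succ_eq_ringKrullDim_of_mem_nonZeroDivisors
        hnzB hxB
      have : IsNoetherianRing B' := inferInstance
      obtain ⟨d, hd⟩ := exists_supportDim_eq (A := B') (M := B')
      rw [Module.supportDim_self_eq_ringKrullDim] at hd
      rw [hdim, hd] at h1
      rw [hd]
      norm_cast at h1 ⊢
      omega
    · intro J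
      refine le_antisymm (fun z hz => ?_) Ideal.le_comap_map
      obtain ⟨s, rfl⟩ := Ideal.Quotient.mk_surjective z
      show s ∈ J.comap (Ideal.Quotient.mk _)
      rw [← hpure (J.comap (Ideal.Quotient.mk _))]
      rw [Ideal.mem_comap,
        show φ' (Ideal.Quotient.mk (Ideal.span {x}) s) = Ideal.Quotient.mk (Ideal.span {φ x}) (φ s) from
          RingHom.congr_fun hcomp s, ← Ideal.map_comap_of_surjective _ Ideal.Quotient.mk_surjective J,
        Ideal.map_map, hcomp, ← Ideal.map_map, ← Ideal.mem_comap,
        Ideal.comap_map_of_surjective _ Ideal.Quotient.mk_surjective, ← RingHom.ker_eq_comap_bot,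
        Ideal.mk_ker] at hz
      rw [Ideal.mem_comap]
      rw [sup_eq_left.2] at hz
      · exact hz
      rw [Ideal.span_singleton_le_iff_mem]
      refine Ideal.mem_map_of_mem _ ?_
      rw [Ideal.mem_comap, Ideal.Quotient.eq_zero_iff_mem.2 (Ideal.mem_span_singleton_self x)]
      exact zero_mem J
    · have h1 : maximalIdeal S' = (maximalIdeal S).map (Ideal.Quotient.mk _) :=
        (IsLocalRing.map_maximalIdeal_of_surjective _ Ideal.Quotient.mk_surjective).symm
      have h2 : maximalIdeal B' = (maximalIdeal B).map (Ideal.Quotient.mk _) :=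
        (IsLocalRing.map_maximalIdeal_of_surjective _ Ideal.Quotient.mk_surjective).symm
      rw [h1, h2, Ideal.map_map, hcomp, ← Ideal.map_map]
      exact (Ideal.map_mono hrad).trans (Ideal.map_radical_le _)

theorem cm_of_pure {S B : Type u} [CommRing S] [CommRing B] [IsLocalRing S]
    (φ : S →+* B) (hB : LocCoh.IsCohenMacaulayLocalRing B)
    (hpure : ∀ J : Ideal S, (J.map φ).comap φ = J)
    (hrad : haveI := hB.toIsLocalRing
      maximalIdeal B ≤ ((maximalIdeal S).map φ).radical) :
    LocCoh.IsCohenMacaulayLocalRing S := by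
  have := hB.toIsLocalRing
  have : IsNoetherianRing B := hB.toIsNoetherian
  obtain ⟨n, hn⟩ := exists_supportDim_eq (A := B) (M := B)
  rw [Module.supportDim_self_eq_ringKrullDim] at hn
  exact cm_of_pure_aux n S B φ hB hn hpure hrad

end Groth.Agent.FiltBl13
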