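import Groth.Agent.Mero90.Frames
import Groth.Prelude.Def_GrTwist

/-!
A local generator of an invertible twisting sheaf `O(1)` on `Proj`, as a fraction.
-/

set_option autoImplicit false

universe u

open CategoryTheory AlgebraicGeometry TopologicalSpace Opposite

namespace Groth.Agent.FiltBl13

theorem exists_generator_twistOne {A σ : Type u} [CommRing A] [SetLike σ A] [AddSubgroupClass σ A]
    (𝒜 : ℕ → σ) [GradedRing 𝒜] (h : PicF.IsInvertible (GrTwist.twist 𝒜 1))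
    (x : ProjectiveSpectrum 𝒜) :
    ∃ (j : ℕ) (a s : A), a ∈ 𝒜 (j + 1) ∧ s ∈ 𝒜 j ∧ s ∉ x.asHomogeneousIdeal ∧
      ∀ (j' : ℕ) (a' s' : A), a' ∈ 𝒜 (j' + 1) → s' ∈ 𝒜 j' → s' ∉ x.asHomogeneousIdeal →
        ∃ (m : ℕ) (p r c : A), p ∈ 𝒜 m ∧ r ∈ 𝒜 m ∧ r ∉ x.asHomogeneousIdeal ∧
          c ∉ x.asHomogeneousIdeal ∧ c * (r * s * a') = c * (s' * (p * a)) := by
  obtain ⟨U, hxU, e, he⟩ := Mero90.exists_frame' h (show ↥(Proj 𝒜) from x)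
  obtain ⟨W, hxW, hWU, i, j, a, s, hs, hc, hw⟩ := (e : GrTwist.sectN (𝒜 := 𝒜) 1 (op U)).2 ⟨x, hxU⟩
  obtain ⟨a₀, s₀, j₀, ha₀, hs₀, hs₀x, hval⟩ : ∃ (a₀ s₀ : A) (j₀ : ℕ), a₀ ∈ 𝒜 (j₀ + 1) ∧ s₀ ∈ 𝒜 j₀ ∧
      ∃ hs₀x : s₀ ∉ x.asHomogeneousIdeal, GrTwist.val e ⟨x, hxU⟩ = Localization.mk a₀ ⟨s₀, hs₀x⟩ := by
    rcases hc with hc | hc
    · refine ⟨a, s, j, ?_, s.2, hs ⟨x, hxW⟩, hw ⟨x, hxW⟩⟩
      have : i = j + 1 := by omega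
      exact this ▸ a.2
    · refine ⟨0, s, j, zero_mem _, s.2, hs ⟨x, hxW⟩, (hw ⟨x, hxW⟩).trans ?_⟩
      rw [show (a : A) = 0 from hc]
  refine ⟨j₀, a₀, s₀, ha₀, hs₀, hs₀x, fun j' a' s' ha' hs' hs'x => ?_⟩
  let V : (Proj 𝒜).Opens := U ⊓ ProjectiveSpectrum.basicOpen 𝒜 s'
  let t : Γ(GrTwist.twist 𝒜 1, V) :=
    (⟨fun y => ⟨Localization.mk a' ⟨s', y.2.2⟩,
        Submodule.subset_span ⟨j' + 1, j', ⟨a', ha'⟩, ⟨s', hs'⟩, y.2.2, by push_cast; ring, rfl⟩⟩,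
      fun y => ⟨V, y.2, 𝟙 _, j' + 1, j', ⟨a', ha'⟩, ⟨s', hs'⟩, fun z => z.2.2,
        Or.inl (by push_cast; ring), fun z => rfl⟩⟩ : GrTwist.sectN (𝒜 := 𝒜) 1 (op V))
  obtain ⟨c, hc'⟩ := (he V inf_le_left).2 t
  have hxV : x ∈ V := ⟨hxU, hs'x⟩
  have h1 : ((c : GrTwist.O (𝒜 := 𝒜) (op V)).1 ⟨x, hxV⟩).val * GrTwist.val e ⟨x, hxU⟩ =
      GrTwist.val t ⟨x, hxV⟩ := by
    rw [← hc']
    exact (GrTwist.coe_smul_val (𝒜 := 𝒜) 1 x _ _).symm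
  obtain ⟨num, hnum⟩ := HomogeneousLocalization.mk_surjective ((c : GrTwist.O (𝒜 := 𝒜) (op V)).1 ⟨x, hxV⟩)
  rw [← hnum, HomogeneousLocalization.val_mk, hval,
    show GrTwist.val t ⟨x, hxV⟩ = Localization.mk a' ⟨s', hs'x⟩ from rfl, Localization.mk_mul,
    Localization.mk_eq_mk_iff, Localization.r_iff_exists] at h1
  obtain ⟨⟨d, hd⟩, h2⟩ := h1
  exact ⟨num.deg, num.num, num.den, d, num.num.2, num.den.2, num.den_mem, hd, h2.symm⟩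

end Groth.Agent.FiltBl13
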