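import Groth.Agent.FiltBl13.ExtRees
import Mathlib.RingTheory.Ideal.UFD
import Mathlib.RingTheory.Polynomial.UniqueFactorization

/-!
# Factoriality of the extended Rees algebra
-/

set_option autoImplicit false

universe u

open LaurentPolynomial

namespace Groth.Agent.FiltBl13

open FiltBl

theorem laurent_isUnit {R : Type u} [CommRing R] [IsDomain R] {f : LaurentPolynomial R}
    (hf : IsUnit f) : ∃ (r : R) (n : ℤ), IsUnit r ∧ f = C r * T n := by
  obtain ⟨g, hfg⟩ := hf.exists_right_inv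
  obtain ⟨n, f', hf'⟩ := exists_T_pow f
  obtain ⟨m, g', hg'⟩ := exists_T_pow g
  have hprod : f' * g' = Polynomial.X ^ (n + m) := by
    apply Polynomial.toLaurent_injective
    rw [map_mul, hf', hg', Polynomial.toLaurent_X_pow, Nat.cast_add, T_add]
    linear_combination (T (n : ℤ) * T (m : ℤ) : LaurentPolynomial R) * hfg
  obtain ⟨i, -, hi⟩ := (dvd_prime_pow Polynomial.prime_X (n + m)).1 ⟨g', hprod.symm⟩
  obtain ⟨u, hu⟩ := hi.symm
  obtain ⟨r, hr, hur⟩ := Polynomial.isUnit_iff.1 u.isUnit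
  refine ⟨r, (i : ℤ) - n, hr, ?_⟩
  have h1 : Polynomial.toLaurent f' = C r * T (i : ℤ) := by
    rw [← hu, map_mul, Polynomial.toLaurent_X_pow, ← hur, Polynomial.toLaurent_C, mul_comm]
  rw [hf'] at h1
  rw [sub_eq_add_neg, T_add, ← mul_assoc, ← h1, mul_assoc, ← T_add]
  simp

theorem isDomain_laurent (R : Type u) [CommRing R] [IsDomain R] : IsDomain R[T;T⁻¹] :=
  IsLocalization.Away.isDomain R[T;T⁻¹] (x := (Polynomial.X : Polynomial R)) Polynomial.X_ne_zero

theorem ufd_of_polynomial (A : Type u) [CommRing A] [IsDomain A] [IsNoetherianRing A]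
    [UniqueFactorizationMonoid (Polynomial A)] : UniqueFactorizationMonoid A := by
  rw [UniqueFactorizationMonoid.iff_forall_isPrincipal_of_height_eq_one]
  intro p _ h1
  have := isPrime_mapC p
  obtain ⟨g, hg⟩ := UniqueFactorizationMonoid.isPrincipal_of_height_eq_one
    (p := p.map Polynomial.C) ((mapC_invariants p _ rfl).2.trans h1)
  have hg' : p.map Polynomial.C = Ideal.span {g} := hg
  obtain ⟨c, hc, hc0⟩ := Submodule.exists_mem_ne_zero_of_ne_bot (p.ne_bot_of_height_eq_one h1)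
  have hdvd : g ∣ Polynomial.C c := Ideal.mem_span_singleton.1 (hg' ▸ Ideal.mem_map_of_mem _ hc)
  have hdeg : g.natDegree = 0 := Nat.le_zero.1
    ((Polynomial.natDegree_le_of_dvd hdvd (Polynomial.C_ne_zero.2 hc0)).trans
      (Polynomial.natDegree_C c).le)
  rw [Polynomial.eq_C_of_natDegree_eq_zero hdeg] at hg'
  refine ⟨g.coeff 0, ?_⟩
  ext a
  rw [← comap_mapC p, Ideal.mem_comap, hg', Ideal.mem_span_singleton, Ideal.submodule_span_eq,
    Ideal.mem_span_singleton]
  refine ⟨fun h => ?_, fun h => map_dvd _ h⟩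
  simpa using (Polynomial.C_dvd_iff_dvd_coeff _ _).1 h 0

theorem ufd_laurent_iff (A : Type u) [CommRing A] [IsDomain A] [IsNoetherianRing A] :
    UniqueFactorizationMonoid A[T;T⁻¹] ↔ UniqueFactorizationMonoid A := by
  rw [← UniqueFactorizationMonoid.iff_of_isLocalizationAway_of_prime (R := Polynomial A) Polynomial.prime_X A[T;T⁻¹]]
  exact ⟨fun _ => ufd_of_polynomial A, fun _ => inferInstance⟩

variable {A : Type u} [CommRing A] [IsDomain A] (𝓕 : IdealFiltration A)

theorem u_irreducible (hsep : ⨅ n, 𝓕.F n = ⊥) : Irreducible 𝓕.u := by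
  have := isDomain_laurent A
  refine ⟨u_not_isUnit 𝓕 hsep, fun x y hxy => ?_⟩
  have h : (x : A[T;T⁻¹]) * (y : A[T;T⁻¹]) = T (-1) := by
    rw [← Subalgebra.coe_mul, ← hxy, coe_u]
  have hu : IsUnit ((x : A[T;T⁻¹]) * (y : A[T;T⁻¹])) := h ▸ isUnit_T (-1)
  obtain ⟨a, n, ha, hx⟩ := laurent_isUnit (isUnit_of_mul_isUnit_left hu)
  obtain ⟨b, m, hb, hy⟩ := laurent_isUnit (isUnit_of_mul_isUnit_right hu)
  have hle : ∀ (z : 𝓕.extRees) (c : A) (k : ℤ), IsUnit c → (z : A[T;T⁻¹]) = C c * T k → k ≤ 0 := by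
    intro z c k hc hz
    by_contra hk
    have h1 := z.2 k
    rw [hz, coeff_CT, if_pos rfl] at h1
    exact one_notMem_F_one 𝓕 hsep
      (Ideal.eq_top_of_isUnit_mem _ (𝓕.antitone (by omega) h1) hc)
  have hnm : n + m = -1 := by
    have h1 := congrArg (fun f : A[T;T⁻¹] => f.coeff (n + m)) h
    simp only [hx, hy] at h1
    rw [show C a * T n * (C b * T m) = (C (a * b) * T (n + m) : A[T;T⁻¹]) by
      rw [map_mul, T_add]; ring, coeff_CT, if_pos rfl, T_apply] at h1
    by_contra hne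
    rw [if_neg (fun h => hne h.symm)] at h1
    exact (ha.mul hb).ne_zero h1
  have hunit : ∀ (z : 𝓕.extRees) (c : A), IsUnit c → (z : A[T;T⁻¹]) = C c * T 0 → IsUnit z := by
    intro z c hc hz
    rw [show z = algebraMap A 𝓕.extRees c from
      Subtype.ext (by rw [hz, T_zero, mul_one, coe_algebraMap])]
    exact hc.map _
  have h1 := hle x a n ha hx
  have h2 := hle y b m hb hy
  rcases (show n = 0 ∨ m = 0 by omega) with rfl | rfl
  · exact Or.inl (hunit x a ha hx)
  · exact Or.inr (hunit y b hb hy)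

theorem ufd_extRees_iff [IsNoetherianRing A] (hfg : Algebra.FiniteType A 𝓕.rees)
    (hsep : ⨅ n, 𝓕.F n = ⊥) [IsDomain 𝓕.extRees] :
    UniqueFactorizationMonoid 𝓕.extRees ↔
      (UniqueFactorizationMonoid A ∧ IsDomain 𝓕.Gr) := by
  have := isNoetherianRing_extRees 𝓕 hfg
  have := isLocalization_away_u 𝓕
  have hu0 : 𝓕.u ≠ 0 := (u_irreducible 𝓕 hsep).ne_zero
  constructor
  · intro h
    have hp : Prime 𝓕.u := UniqueFactorizationMonoid.irreducible_iff_prime.1 (u_irreducible 𝓕 hsep)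
    refine ⟨(ufd_laurent_iff A).1
      ((UniqueFactorizationMonoid.iff_of_isLocalizationAway_of_prime hp A[T;T⁻¹]).1 h), ?_⟩
    exact (Ideal.Quotient.isDomain_iff_prime _).2 ((Ideal.span_singleton_prime hu0).2 hp)
  · rintro ⟨hA, hG⟩
    have hp : Prime 𝓕.u := (Ideal.span_singleton_prime hu0).1
      ((Ideal.Quotient.isDomain_iff_prime _).1 hG)
    exact (UniqueFactorizationMonoid.iff_of_isLocalizationAway_of_prime hp A[T;T⁻¹]).2
      ((ufd_laurent_iff A).2 hA)

end Groth.Agent.FiltBl13
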