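import Groth.Prelude.Def_GrLC
import Groth.Agent.CAlg1.Regular
import Groth.Agent.CAlg1.Serre
import Groth.Agent.EGA4H10.GenFormal
import Groth.Agent.FiltBl13.LocalFacts
import Mathlib.Algebra.DualNumber
import Mathlib.Algebra.Polynomial.Laurent
import Mathlib.RingTheory.AdjoinRoot
import Mathlib.RingTheory.RegularLocalRing.Polynomial

/-!
# Graded rings with a unit of positive degree and local degree zero part

If `t` is a unit of degree `N` with `R_i R_j ⊆ m t` for `0 < i, j`, `i + j = N`, then `R / (t - 1)`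
is a regular local ring and `R[U] / (U ^ N - t)` is its Laurent polynomial ring.
-/

set_option autoImplicit false

universe u

open IsLocalRing

namespace Groth.Agent.FiltBl13

/-- the data of a unit `t` of degree `N > 0` with `R_i R_j ⊆ m t` -/
structure UnitDeg {R : Type u} [CommRing R] (𝒜 : ℤ → AddSubgroup R) [GradedRing 𝒜]
    [IsLocalRing (GrLC.deg0 𝒜)] (N : ℕ) where
  pos : 0 < N
  t : Rˣ
  t_mem : (t : R) ∈ 𝒜 (N : ℤ)
  small : ∀ (i j : ℤ), 0 < i → 0 < j → i + j = (N : ℤ) → ∀ a ∈ 𝒜 i, ∀ b ∈ 𝒜 j,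
      ∃ c : GrLC.deg0 𝒜, c ∈ maximalIdeal (GrLC.deg0 𝒜) ∧ a * b = (c : R) * t

/-- `r ↦ g r * τ ^ deg r` -/
noncomputable def twist {R S : Type u} [CommRing R] [CommRing S] (𝒜 : ℤ → AddSubgroup R)
    [GradedRing 𝒜] (g : R →+* S) (τ : Sˣ) : R →+* S :=
  (DirectSum.toSemiring
    (fun i : ℤ => (AddMonoidHom.mulRight ((τ ^ i : Sˣ) : S)).comp
      (g.toAddMonoidHom.comp (𝒜 i).subtype))
    (by show g (1 : R) * ((τ ^ (0 : ℤ) : Sˣ) : S) = 1; simp)
    (fun {i j} a b => by
      show g ((a : R) * b) * ((τ ^ (i + j) : Sˣ) : S) =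
        g (a : R) * ((τ ^ i : Sˣ) : S) * (g (b : R) * ((τ ^ j : Sˣ) : S))
      rw [map_mul, zpow_add, Units.val_mul]
      ring)).comp (DirectSum.decomposeRingEquiv 𝒜).toRingHom

theorem twist_apply {R S : Type u} [CommRing R] [CommRing S] (𝒜 : ℤ → AddSubgroup R)
    [GradedRing 𝒜] (g : R →+* S) (τ : Sˣ) {i : ℤ} {r : R} (hr : r ∈ 𝒜 i) :
    twist 𝒜 g τ r = g r * ((τ ^ i : Sˣ) : S) := by
  simp only [twist, RingHom.coe_comp, Function.comp_apply, RingEquiv.toRingHom_eq_coe,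
    RingHom.coe_coe]
  rw [show DirectSum.decomposeRingEquiv 𝒜 r = DirectSum.decompose 𝒜 r from rfl,
    DirectSum.decompose_of_mem 𝒜 hr, DirectSum.toSemiring_of]
  rfl

open LaurentPolynomial in
theorem val_unitT_zpow (C' : Type u) [CommRing C'] (i : ℤ) :
    (((isUnit_T (R := C') 1).unit ^ i : (C'[T;T⁻¹])ˣ) : C'[T;T⁻¹]) = T i := by
  obtain ⟨n, rfl | rfl⟩ := Int.eq_nat_or_neg i
  · rw [zpow_natCast, Units.val_pow_eq_pow_val, IsUnit.unit_spec, T_pow, mul_one]
  · rw [zpow_neg, zpow_natCast]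
    refine Units.inv_eq_of_mul_eq_one_right ?_
    rw [Units.val_pow_eq_pow_val, IsUnit.unit_spec, T_pow, mul_one, ← T_add, add_neg_cancel, T_zero]

namespace UnitDeg

variable {R : Type u} [CommRing R] {𝒜 : ℤ → AddSubgroup R} [GradedRing 𝒜]
  [IsLocalRing (GrLC.deg0 𝒜)] {N : ℕ} (D : UnitDeg 𝒜 N)

theorem inv_mem : ((D.t⁻¹ : Rˣ) : R) ∈ 𝒜 (-(N : ℤ)) := by
  classical
  have h1 : (D.t : R) * (DirectSum.decompose 𝒜 ((D.t⁻¹ : Rˣ) : R) (-(N : ℤ)) : R) = 1 := by
    rw [← DirectSum.coe_decompose_mul_add_of_left_mem 𝒜 D.t_mem, Units.mul_inv, add_neg_cancel,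
      DirectSum.decompose_of_mem_same 𝒜 (SetLike.one_mem_graded 𝒜)]
  rw [Units.inv_eq_of_mul_eq_one_right h1]
  exact SetLike.coe_mem _

theorem zpow_mem (k : ℤ) : ((D.t ^ k : Rˣ) : R) ∈ 𝒜 (k * N) := by
  obtain ⟨n, rfl | rfl⟩ := Int.eq_nat_or_neg k
  · rw [zpow_natCast, Units.val_pow_eq_pow_val, ← nsmul_eq_mul]
    exact SetLike.pow_mem_graded n D.t_mem
  · rw [zpow_neg, zpow_natCast, ← inv_pow, Units.val_pow_eq_pow_val, neg_mul, ← mul_neg,
      ← nsmul_eq_mul]
    exact SetLike.pow_mem_graded n D.inv_mem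

theorem mul_zpow_mem {i : ℤ} {r : R} (hr : r ∈ 𝒜 i) (k : ℤ) :
    r * ((D.t ^ k : Rˣ) : R) ∈ 𝒜 (i + k * N) :=
  SetLike.mul_mem_graded hr (D.zpow_mem k)

/-- moving a piece of degree `k * N` to degree zero -/
noncomputable def nrm (i : ℤ) (h : (N : ℤ) ∣ i) (r : 𝒜 i) : GrLC.deg0 𝒜 :=
  ⟨(r : R) * ((D.t ^ (-(i / N)) : Rˣ) : R), by
    have h1 := D.mul_zpow_mem r.2 (-(i / N))
    rwa [neg_mul, Int.ediv_mul_cancel h, add_neg_cancel] at h1⟩

theorem coe_nrm (i : ℤ) (h : (N : ℤ) ∣ i) (r : 𝒜 i) :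
    ((D.nrm i h r : GrLC.deg0 𝒜) : R) = (r : R) * ((D.t ^ (-(i / N)) : Rˣ) : R) := rfl

theorem mul_eq_of_not_dvd {i j : ℤ} (hi : ¬ (N : ℤ) ∣ i) (hij : (N : ℤ) ∣ i + j) {a b : R}
    (ha : a ∈ 𝒜 i) (hb : b ∈ 𝒜 j) :
    ∃ c : GrLC.deg0 𝒜, c ∈ maximalIdeal _ ∧
      a * b * ((D.t ^ (-((i + j) / N)) : Rˣ) : R) = c := by
  have hN : (0 : ℤ) < N := by exact_mod_cast D.pos
  have hj : ¬ (N : ℤ) ∣ j := fun h => hi ((Int.dvd_add_left h).1 hij)
  have hi0 : 0 < i % N := lt_of_le_of_ne (Int.emod_nonneg _ hN.ne')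
    (fun h => hi (Int.dvd_of_emod_eq_zero h.symm))
  have hj0 : 0 < j % N := lt_of_le_of_ne (Int.emod_nonneg _ hN.ne')
    (fun h => hj (Int.dvd_of_emod_eq_zero h.symm))
  have hi1 := Int.emod_lt_of_pos i hN
  have hj1 := Int.emod_lt_of_pos j hN
  have hei := Int.emod_add_mul_ediv i N
  have hej := Int.emod_add_mul_ediv j N
  have hsum : i % N + j % N = N := by
    have h1 : (N : ℤ) ∣ i % N + j % N := by
      have : i % N + j % N = i + j - N * (i / N + j / N) := by rw [mul_add]; omega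
      rw [this]
      exact dvd_sub hij (dvd_mul_right _ _)
    obtain ⟨k, hk⟩ := h1
    rcases lt_trichotomy k 1 with h | h | h
    · nlinarith
    · rw [hk, h, mul_one]
    · nlinarith
  have ha' : a * ((D.t ^ (-(i / N)) : Rˣ) : R) ∈ 𝒜 (i % N) := by
    have h1 := D.mul_zpow_mem ha (-(i / N))
    rwa [show i + -(i / N) * N = i % N by linear_combination -hei] at h1
  have hb' : b * ((D.t ^ (-(j / N)) : Rˣ) : R) ∈ 𝒜 (j % N) := by
    have h1 := D.mul_zpow_mem hb (-(j / N))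
    rwa [show j + -(j / N) * N = j % N by linear_combination -hej] at h1
  obtain ⟨c, hc, hab⟩ := D.small _ _ hi0 hj0 hsum _ ha' _ hb'
  refine ⟨c, hc, ?_⟩
  have hdiv : (i + j) / N = i / N + j / N + 1 := by
    have h1 : i + j = (N : ℤ) * (i / N + j / N + 1) := by linear_combination hsum - hei - hej
    rw [h1, Int.mul_ediv_cancel_left _ hN.ne']
  rw [hdiv, show -(i / N + j / N + 1) = -(i / N) + -(j / N) + -1 by ring, zpow_add, zpow_add,
    Units.val_mul, Units.val_mul,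
    show a * b * (((D.t ^ (-(i / N)) : Rˣ) : R) * ((D.t ^ (-(j / N)) : Rˣ) : R) *
        ((D.t ^ (-1 : ℤ) : Rˣ) : R)) =
      a * ((D.t ^ (-(i / N)) : Rˣ) : R) * (b * ((D.t ^ (-(j / N)) : Rˣ) : R)) *
        ((D.t ^ (-1 : ℤ) : Rˣ) : R) by ring, hab, zpow_neg_one, mul_assoc, Units.mul_inv, mul_one]

variable {S : Type u} [CommRing S] (ρ : GrLC.deg0 𝒜 →+* S) (τ : Sˣ)

/-- components of `chi` -/
noncomputable def comp (i : ℤ) : 𝒜 i →+ S :=
  if h : (N : ℤ) ∣ i then
    { toFun := fun r => ρ (D.nrm i h r) * ((τ ^ (i / N) : Sˣ) : S)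
      map_zero' := by
        rw [show D.nrm i h 0 = 0 from Subtype.ext (zero_mul _), map_zero, zero_mul]
      map_add' := fun a b => by
        rw [show D.nrm i h (a + b) = D.nrm i h a + D.nrm i h b from Subtype.ext (add_mul _ _ _),
          map_add, add_mul] }
  else 0

theorem comp_of_dvd {i : ℤ} (h : (N : ℤ) ∣ i) (r : 𝒜 i) :
    D.comp ρ τ i r = ρ (D.nrm i h r) * ((τ ^ (i / N) : Sˣ) : S) := by
  rw [comp, dif_pos h]; rfl

theorem comp_of_not_dvd {i : ℤ} (h : ¬ (N : ℤ) ∣ i) (r : 𝒜 i) : D.comp ρ τ i r = 0 := by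
  rw [comp, dif_neg h]; rfl

/-- the ring map killing the pieces of degree not divisible by `N`, sending `t` to `τ` -/
noncomputable def chi (hρ : ∀ c ∈ maximalIdeal (GrLC.deg0 𝒜), ρ c = 0) : R →+* S :=
  (DirectSum.toSemiring (D.comp ρ τ)
    (by
      show D.comp ρ τ 0 ⟨(1 : R), SetLike.one_mem_graded 𝒜⟩ = 1
      rw [comp_of_dvd D ρ τ (dvd_zero _),
        show D.nrm 0 (dvd_zero _) ⟨(1 : R), SetLike.one_mem_graded 𝒜⟩ = 1 from
          Subtype.ext (by rw [coe_nrm]; simp), map_one, Int.zero_ediv, zpow_zero,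
        Units.val_one, one_mul])
    (fun {i j} a b => by
      show D.comp ρ τ (i + j) ⟨(a : R) * b, SetLike.mul_mem_graded a.2 b.2⟩ = _
      by_cases hi : (N : ℤ) ∣ i
      · by_cases hj : (N : ℤ) ∣ j
        · rw [comp_of_dvd D ρ τ (dvd_add hi hj), comp_of_dvd D ρ τ hi, comp_of_dvd D ρ τ hj]
          have hd : (i + j) / N = i / N + j / N := Int.add_ediv_of_dvd_left hi
          rw [show D.nrm (i + j) (dvd_add hi hj) ⟨(a : R) * b, SetLike.mul_mem_graded a.2 b.2⟩ =
              D.nrm i hi a * D.nrm j hj b from Subtype.ext (by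
                rw [coe_nrm, MulMemClass.coe_mul, coe_nrm, coe_nrm, hd, neg_add,
                  zpow_add, Units.val_mul]
                ring), map_mul, hd, zpow_add, Units.val_mul]
          ring
        · rw [comp_of_not_dvd D ρ τ hj, mul_zero,
            comp_of_not_dvd D ρ τ (fun h => hj ((Int.dvd_add_right hi).1 h))]
      · rw [comp_of_not_dvd D ρ τ hi, zero_mul]
        by_cases hij : (N : ℤ) ∣ i + j
        · obtain ⟨c, hc, hce⟩ := D.mul_eq_of_not_dvd hi hij a.2 b.2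
          rw [comp_of_dvd D ρ τ hij,
            show D.nrm (i + j) hij ⟨(a : R) * b, SetLike.mul_mem_graded a.2 b.2⟩ = c from
              Subtype.ext (by rw [coe_nrm]; exact hce), hρ c hc, zero_mul]
        · exact comp_of_not_dvd D ρ τ hij _)).comp (DirectSum.decomposeRingEquiv 𝒜).toRingHom

theorem chi_apply (hρ : ∀ c ∈ maximalIdeal (GrLC.deg0 𝒜), ρ c = 0) {i : ℤ} {r : R} (hr : r ∈ 𝒜 i) :
    D.chi ρ τ hρ r = D.comp ρ τ i ⟨r, hr⟩ := by
  simp only [chi, RingHom.coe_comp, Function.comp_apply, RingEquiv.toRingHom_eq_coe,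
    RingHom.coe_coe]
  rw [show DirectSum.decomposeRingEquiv 𝒜 r = DirectSum.decompose 𝒜 r from rfl,
    DirectSum.decompose_of_mem 𝒜 hr, DirectSum.toSemiring_of]

theorem chi_coe (hρ : ∀ c ∈ maximalIdeal (GrLC.deg0 𝒜), ρ c = 0) (c : GrLC.deg0 𝒜) :
    D.chi ρ τ hρ (c : R) = ρ c := by
  rw [chi_apply D ρ τ hρ (i := 0) c.2, comp_of_dvd D ρ τ (dvd_zero _), Int.zero_ediv, zpow_zero,
    Units.val_one, mul_one]
  exact congrArg ρ (Subtype.ext (by rw [coe_nrm]; simp))

theorem chi_t (hρ : ∀ c ∈ maximalIdeal (GrLC.deg0 𝒜), ρ c = 0) : D.chi ρ τ hρ (D.t : R) = τ := by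
  have hN : (N : ℤ) ≠ 0 := by exact_mod_cast D.pos.ne'
  rw [chi_apply D ρ τ hρ D.t_mem, comp_of_dvd D ρ τ dvd_rfl, Int.ediv_self hN, zpow_one,
    show D.nrm (N : ℤ) dvd_rfl ⟨D.t, D.t_mem⟩ = 1 from Subtype.ext (by
      rw [coe_nrm, Int.ediv_self hN]; simp), map_one, one_mul]

/-- the residue field of `R_0` -/
abbrev K (_D : UnitDeg 𝒜 N) : Type u := ResidueField (GrLC.deg0 𝒜)

theorem residue_eq_zero {c : GrLC.deg0 𝒜} (hc : c ∈ maximalIdeal (GrLC.deg0 𝒜)) :
    residue (GrLC.deg0 𝒜) c = 0 := (residue_eq_zero_iff c).2 hc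

/-- evaluation at the distinguished point -/
noncomputable def chi0 : R →+* D.K :=
  D.chi (residue _) 1 (fun _ hc => residue_eq_zero hc)

/-- the distinguished maximal ideal containing `t - 1` -/
noncomputable def M' : Ideal R := RingHom.ker D.chi0

instance M'_isMaximal : D.M'.IsMaximal :=
  RingHom.ker_isMaximal_of_surjective D.chi0 fun z => by
    obtain ⟨c, rfl⟩ := residue_surjective z
    exact ⟨c, D.chi_coe _ _ _ c⟩

theorem sub_one_mem_M' : (D.t : R) - 1 ∈ D.M' := by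
  rw [M', RingHom.mem_ker, map_sub, map_one, chi0, chi_t, Units.val_one, sub_self]

theorem not_mem_sq {s : R} (hs : s ∉ D.M') : s * ((D.t : R) - 1) ∉ D.M' ^ 2 := by
  intro hmem
  let ρ : GrLC.deg0 𝒜 →+* DualNumber D.K := (TrivSqZeroExt.inlHom D.K D.K).comp (residue _)
  let τ : (DualNumber D.K)ˣ := Units.mkOfMulEqOne (1 + DualNumber.eps) (1 - DualNumber.eps) (by
    rw [show (1 + DualNumber.eps : DualNumber D.K) * (1 - DualNumber.eps) =
      1 - DualNumber.eps * DualNumber.eps by ring, DualNumber.eps_mul_eps, sub_zero])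
  have hρ : ∀ c ∈ maximalIdeal (GrLC.deg0 𝒜), ρ c = 0 := fun c hc => by
    show TrivSqZeroExt.inlHom D.K D.K (residue _ c) = 0
    rw [residue_eq_zero hc, map_zero]
  let χ := D.chi ρ τ hρ
  let fst : DualNumber D.K →+* D.K := (TrivSqZeroExt.fstHom D.K D.K D.K).toRingHom
  have hfst : ∀ r, fst (χ r) = D.chi0 r := by
    intro r
    induction r using DirectSum.Decomposition.inductionOn 𝒜 with
    | zero => simp
    | @homogeneous i r =>
      rw [chi_apply D ρ τ hρ r.2, chi0, chi_apply D _ _ _ r.2]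
      by_cases h : (N : ℤ) ∣ i
      · have hτ : Units.map fst.toMonoidHom τ = 1 := Units.ext (by
          show TrivSqZeroExt.fst (1 + DualNumber.eps : DualNumber D.K) = 1
          simp)
        have hτi : fst ((τ ^ (i / N) : (DualNumber D.K)ˣ) : DualNumber D.K) = 1 := by
          have h1 := congrArg Units.val (map_zpow (Units.map fst.toMonoidHom) τ (i / N))
          rw [hτ, one_zpow, Units.val_one] at h1
          exact h1
        rw [comp_of_dvd D _ _ h, comp_of_dvd D _ _ h, map_mul, hτi, one_zpow, Units.val_one,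
          mul_one, mul_one]
        rfl
      · rw [comp_of_not_dvd D _ _ h, comp_of_not_dvd D _ _ h, map_zero]
    | add a b ha hb => rw [map_add, map_add, map_add, ha, hb]
  have hzero : ∀ x ∈ D.M' ^ 2, χ x = 0 := by
    intro x hx
    rw [sq] at hx
    refine Submodule.mul_induction_on hx (fun a ha b hb => ?_) (fun a b ha hb => by
      rw [map_add, ha, hb, add_zero])
    rw [map_mul]
    have ha' : TrivSqZeroExt.fst (χ a) = 0 := (hfst a).trans ha
    have hb' : TrivSqZeroExt.fst (χ b) = 0 := (hfst b).trans hb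
    apply TrivSqZeroExt.ext
    · rw [TrivSqZeroExt.fst_mul, ha', zero_mul]; rfl
    · rw [TrivSqZeroExt.snd_mul, ha', hb']; simp
  have h1 := congrArg TrivSqZeroExt.snd (hzero _ hmem)
  rw [map_mul, map_sub, map_one, chi_t] at h1
  have h2 : TrivSqZeroExt.fst (χ s) = 0 := by
    simpa [τ, TrivSqZeroExt.snd_mul] using h1
  exact hs ((hfst s).symm.trans h2)

/-- `R / (t - 1)` -/
abbrev Quo : Type u := R ⧸ Ideal.span {(D.t : R) - 1}

theorem mk_zpow (k : ℤ) :
    Ideal.Quotient.mk (Ideal.span {(D.t : R) - 1}) ((D.t ^ k : Rˣ) : R) = 1 := by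
  have h : Units.map (Ideal.Quotient.mk (Ideal.span {(D.t : R) - 1})).toMonoidHom D.t = 1 :=
    Units.ext (by
      show Ideal.Quotient.mk _ (D.t : R) = 1
      rw [← sub_eq_zero, ← map_one (Ideal.Quotient.mk (Ideal.span {(D.t : R) - 1})), ← map_sub,
        Ideal.Quotient.eq_zero_iff_mem]
      exact Ideal.mem_span_singleton_self _)
  have h1 := congrArg Units.val (map_zpow
    (Units.map (Ideal.Quotient.mk (Ideal.span {(D.t : R) - 1})).toMonoidHom) D.t k)
  rwa [h, one_zpow, Units.val_one] at h1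

theorem le_of_isMaximal (Q : Ideal D.Quo) [Q.IsMaximal] :
    Q.comap (Ideal.Quotient.mk _) = D.M' := by
  classical
  let π := Ideal.Quotient.mk (Ideal.span {(D.t : R) - 1})
  let ι : GrLC.deg0 𝒜 →+* D.Quo := π.comp (GrLC.deg0 𝒜).subtype
  let _ : Algebra (GrLC.deg0 𝒜) D.Quo := ι.toAlgebra
  have hint : Algebra.IsIntegral (GrLC.deg0 𝒜) D.Quo := ⟨fun x => by
    obtain ⟨r, rfl⟩ := Ideal.Quotient.mk_surjective x
    rw [← DirectSum.sum_support_decompose 𝒜 r, map_sum]
    refine IsIntegral.sum _ fun i _ => IsIntegral.of_pow D.pos ?_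
    have hpow : (DirectSum.decompose 𝒜 r i : R) ^ N * ((D.t ^ (-i) : Rˣ) : R) ∈ 𝒜 0 := by
      have h1 := D.mul_zpow_mem (SetLike.pow_mem_graded N (SetLike.coe_mem _)) (-i)
        (r := (DirectSum.decompose 𝒜 r i : R) ^ N)
      rwa [show N • i + -i * N = 0 by rw [nsmul_eq_mul]; ring] at h1
    rw [show π (DirectSum.decompose 𝒜 r i : R) ^ N =
        algebraMap (GrLC.deg0 𝒜) D.Quo ⟨_, hpow⟩ from by
      show _ = π (_ * _)
      rw [map_mul, D.mk_zpow, mul_one, map_pow]]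
    exact isIntegral_algebraMap⟩
  have hQ0 : ∀ c ∈ maximalIdeal (GrLC.deg0 𝒜), π (c : R) ∈ Q := fun c hc => by
    have h1 := Ideal.isMaximal_comap_of_isIntegral_of_isMaximal (R := GrLC.deg0 𝒜) Q
    rw [← IsLocalRing.eq_maximalIdeal h1] at hc
    exact hc
  have hoff : ∀ (i : ℤ) (a : R), a ∈ 𝒜 i → ¬ (N : ℤ) ∣ i → π a ∈ Q := by
    intro i a ha hi
    refine ‹Q.IsMaximal›.isPrime.mem_of_pow_mem N ?_
    have hN : N = (N - 1) + 1 := by have := D.pos; omega
    have hb : a ^ (N - 1) ∈ 𝒜 ((N - 1) • i) := SetLike.pow_mem_graded _ ha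
    obtain ⟨c, hc, hce⟩ := D.mul_eq_of_not_dvd hi
      (⟨i, by rw [nsmul_eq_mul, Nat.cast_sub (show 1 ≤ N from D.pos)]; push_cast; ring⟩ :
        (N : ℤ) ∣ i + (N - 1) • i) ha hb
    have h1 := congrArg π hce
    rw [map_mul, D.mk_zpow, mul_one, ← pow_succ', ← hN, map_pow] at h1
    rw [h1]
    exact hQ0 c hc
  refine (Ideal.IsMaximal.eq_of_le inferInstance (Ideal.comap_ne_top _ ‹Q.IsMaximal›.ne_top) ?_).symm
  intro x hx
  have key : ∀ r : R, ∃ c : GrLC.deg0 𝒜, π r - π (c : R) ∈ Q ∧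
      D.chi0 r = residue _ c := by
    intro r
    induction r using DirectSum.Decomposition.inductionOn 𝒜 with
    | zero => exact ⟨0, by simp, by simp⟩
    | @homogeneous i r =>
      rw [chi0, chi_apply D _ _ _ r.2]
      by_cases h : (N : ℤ) ∣ i
      · refine ⟨D.nrm i h r, ?_, by rw [comp_of_dvd D _ _ h, one_zpow, Units.val_one, mul_one]⟩
        rw [coe_nrm, map_mul, D.mk_zpow, mul_one, sub_self]
        exact zero_mem _
      · refine ⟨0, ?_, by rw [comp_of_not_dvd D _ _ h, map_zero]⟩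
        rw [ZeroMemClass.coe_zero, map_zero, sub_zero]
        exact hoff i r r.2 h
    | add a b ha hb =>
      obtain ⟨c, hc, hc'⟩ := ha
      obtain ⟨d, hd, hd'⟩ := hb
      refine ⟨c + d, ?_, by rw [map_add, map_add, hc', hd']⟩
      rw [AddMemClass.coe_add, map_add, map_add, add_sub_add_comm]
      exact add_mem hc hd
  obtain ⟨c, hc, hc'⟩ := key x
  rw [show D.chi0 x = 0 from hx, eq_comm, residue_eq_zero_iff] at hc'
  have h1 := add_mem hc (hQ0 c hc')
  rw [sub_add_cancel] at h1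
  exact h1

theorem regularLocal_quo (hreg : ∀ (p : Ideal R) [p.IsPrime], IsRegularLocalRing (Localization.AtPrime p)) :
    IsRegularLocalRing D.Quo := by
  let π := Ideal.Quotient.mk (Ideal.span {(D.t : R) - 1})
  have hle : RingHom.ker π ≤ D.M' := by
    rw [Ideal.mk_ker, Ideal.span_singleton_le_iff_mem]
    exact D.sub_one_mem_M'
  let Mb : Ideal D.Quo := D.M'.map π
  have hMb : Mb.comap π = D.M' := by
    rw [Ideal.comap_map_of_surjective _ Ideal.Quotient.mk_surjective, ← RingHom.ker_eq_comap_bot,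
      sup_eq_left.2 hle]
  have : Mb.IsPrime := Ideal.map_isPrime_of_surjective Ideal.Quotient.mk_surjective hle
  have hne : Nontrivial D.Quo := Ideal.Quotient.nontrivial_iff.2
    (ne_top_of_le_ne_top (Ideal.IsMaximal.ne_top (inferInstance : D.M'.IsMaximal)) (Ideal.mk_ker (I := Ideal.span {(D.t : R) - 1}) ▸ hle))
  have : IsLocalRing D.Quo := IsLocalRing.of_unique_max_ideal ⟨Mb,
    (Ideal.map_eq_top_or_isMaximal_of_surjective _ Ideal.Quotient.mk_surjective inferInstance).resolve_left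
      ‹Mb.IsPrime›.ne_top,
    fun Q hQ => by
      rw [← Ideal.map_comap_of_surjective _ Ideal.Quotient.mk_surjective Q, D.le_of_isMaximal Q]⟩
  have hmax : maximalIdeal D.Quo = Mb := (IsLocalRing.eq_maximalIdeal
    ((Ideal.map_eq_top_or_isMaximal_of_surjective _ Ideal.Quotient.mk_surjective inferInstance).resolve_left
      ‹Mb.IsPrime›.ne_top)).symm
  let L := Localization.AtPrime D.M'
  have := hreg D.M'
  let x : L := algebraMap R L ((D.t : R) - 1)
  have hx : x ∈ maximalIdeal L :=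
    (IsLocalization.AtPrime.to_map_mem_maximal_iff L D.M' _).2 D.sub_one_mem_M'
  have hx2 : x ∉ maximalIdeal L ^ 2 := by
    rw [← Localization.AtPrime.map_eq_maximalIdeal, ← Ideal.map_pow,
      IsLocalization.algebraMap_mem_map_algebraMap_iff D.M'.primeCompl]
    rintro ⟨s, hs, hmem⟩
    exact D.not_mem_sq hs hmem
  have := (CAlg1.regular_quotient_singleton hx hx2).1
  have := Gor18.isLocalization_atPrime_quotient D.M' L (Ideal.span {(D.t : R) - 1}) Mb hMb
  have hI : (Ideal.span {(D.t : R) - 1}).map (algebraMap R L) = Ideal.span {x} := by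
    rw [Ideal.map_span, Set.image_singleton]
  have e1 : Localization.AtPrime Mb ≃+* L ⧸ Ideal.span {x} :=
    (IsLocalization.algEquiv Mb.primeCompl (Localization.AtPrime Mb)
      (L ⧸ (Ideal.span {(D.t : R) - 1}).map (algebraMap R L))).toRingEquiv.trans
      (Ideal.quotEquivOfEq hI)
  have : IsRegularLocalRing (Localization.AtPrime Mb) := IsRegularLocalRing.of_ringEquiv e1.symm
  refine IsRegularLocalRing.of_ringEquiv (IsLocalization.atUnits D.Quo Mb.primeCompl
    (S := Localization.AtPrime Mb) (fun z hz => ?_)).toRingEquiv.symm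
  exact IsLocalRing.notMem_maximalIdeal.1 (hmax ▸ hz)

open Polynomial LaurentPolynomial in
theorem isRegularRing_adjoinRoot
    (hreg : ∀ (p : Ideal R) [p.IsPrime], IsRegularLocalRing (Localization.AtPrime p)) :
    IsRegularRing (AdjoinRoot (Polynomial.X ^ N - Polynomial.C (D.t : R))) := by
  let π := Ideal.Quotient.mk (Ideal.span {(D.t : R) - 1})
  let B := AdjoinRoot (Polynomial.X ^ N - Polynomial.C (D.t : R))
  let of := AdjoinRoot.of (Polynomial.X ^ N - Polynomial.C (D.t : R))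
  let U := AdjoinRoot.root (Polynomial.X ^ N - Polynomial.C (D.t : R))
  have hU : U ^ N = of (D.t : R) := by
    have h1 := AdjoinRoot.eval₂_root (Polynomial.X ^ N - Polynomial.C (D.t : R))
    rw [Polynomial.eval₂_sub, Polynomial.eval₂_X_pow, Polynomial.eval₂_C] at h1
    exact sub_eq_zero.1 h1
  have hUu : IsUnit U := (isUnit_pow_iff D.pos.ne').1 (hU ▸ (D.t.isUnit.map of))
  let σ : R →+* D.Quo[T;T⁻¹] :=
    twist 𝒜 (LaurentPolynomial.C.comp π) (LaurentPolynomial.isUnit_T (R := D.Quo) 1).unit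
  have hσ : ∀ (i : ℤ) (r : R), r ∈ 𝒜 i →
      σ r = LaurentPolynomial.C (π r) * LaurentPolynomial.T i := fun i r hr => by
    rw [twist_apply 𝒜 _ _ hr, val_unitT_zpow]; rfl
  have hπt : π (D.t : R) = 1 := by simpa using D.mk_zpow 1
  let Φ : B →+* D.Quo[T;T⁻¹] := AdjoinRoot.lift σ (LaurentPolynomial.T 1) (by
    rw [Polynomial.eval₂_sub, Polynomial.eval₂_X_pow, Polynomial.eval₂_C, hσ _ _ D.t_mem, hπt,
      map_one, one_mul, LaurentPolynomial.T_pow, mul_one, sub_self])
  let β : R →+* B := twist 𝒜 of hUu.unit⁻¹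
  have hβ : ∀ (i : ℤ) (r : R), r ∈ 𝒜 i → β r = of r * ((hUu.unit ^ (-i) : Bˣ) : B) :=
    fun i r hr => by rw [twist_apply 𝒜 _ _ hr, inv_zpow']
  have hβt : β (D.t : R) = 1 := by
    rw [hβ _ _ D.t_mem, ← hU, zpow_neg, zpow_natCast]
    rw [show U ^ N = ((hUu.unit ^ N : Bˣ) : B) from by
      rw [Units.val_pow_eq_pow_val, IsUnit.unit_spec]]
    exact Units.mul_inv _
  let γ : D.Quo →+* B := Ideal.Quotient.lift _ β (fun x hx => by
    obtain ⟨c, rfl⟩ := Ideal.mem_span_singleton'.1 hx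
    rw [map_mul, map_sub, map_one, hβt, sub_self, mul_zero])
  let Ψ : D.Quo[T;T⁻¹] →+* B := LaurentPolynomial.eval₂ γ hUu.unit
  have h1 : Ψ.comp Φ = RingHom.id B := by
    refine Ideal.Quotient.ringHom_ext (Polynomial.ringHom_ext (fun r => ?_) ?_)
    · show Ψ (Φ (of r)) = of r
      rw [show Φ (of r) = σ r from AdjoinRoot.lift_of _]
      induction r using DirectSum.Decomposition.inductionOn 𝒜 with
      | zero => simp
      | @homogeneous i r =>
        rw [hσ _ _ r.2, LaurentPolynomial.eval₂_C_mul_T]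
        show β r * _ = _
        rw [hβ _ _ r.2, mul_assoc, ← Units.val_mul, ← zpow_add, neg_add_cancel, zpow_zero,
          Units.val_one, mul_one]
      | add a b ha hb => rw [map_add, map_add, ha, hb, map_add]
    · show Ψ (Φ U) = U
      rw [show Φ U = LaurentPolynomial.T 1 from AdjoinRoot.lift_root _, LaurentPolynomial.eval₂_T,
        zpow_one, IsUnit.unit_spec]
  have hΦu : ∀ i : ℤ, Φ ((hUu.unit ^ i : Bˣ) : B) = LaurentPolynomial.T i := by
    intro i
    have h0 : Φ (hUu.unit : B) = LaurentPolynomial.T 1 := by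
      rw [IsUnit.unit_spec]; exact AdjoinRoot.lift_root _
    obtain ⟨n, rfl | rfl⟩ := Int.eq_nat_or_neg i
    · rw [zpow_natCast, Units.val_pow_eq_pow_val, map_pow, h0, LaurentPolynomial.T_pow, mul_one]
    · apply (LaurentPolynomial.isUnit_T (R := D.Quo) (n : ℤ)).mul_right_cancel
      rw [← LaurentPolynomial.T_add, neg_add_cancel, LaurentPolynomial.T_zero,
        show (LaurentPolynomial.T (n : ℤ) : D.Quo[T;T⁻¹]) = Φ ((hUu.unit ^ (n : ℤ) : Bˣ) : B) by
          rw [zpow_natCast, Units.val_pow_eq_pow_val, map_pow, h0, LaurentPolynomial.T_pow,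
            mul_one],
        ← map_mul, ← Units.val_mul, ← zpow_add, neg_add_cancel, zpow_zero, Units.val_one, map_one]
  have h2 : Φ.comp Ψ = RingHom.id _ := by
    refine RingHom.ext fun f => ?_
    induction f using LaurentPolynomial.induction_on' with
    | add p q hp hq => rw [map_add, hp, hq, map_add]
    | C_mul_T n a =>
      obtain ⟨r, rfl⟩ := Ideal.Quotient.mk_surjective a
      show Φ (Ψ _) = _
      rw [LaurentPolynomial.eval₂_C_mul_T, map_mul, hΦu]
      congr 1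
      show Φ (β r) = _
      induction r using DirectSum.Decomposition.inductionOn 𝒜 with
      | zero => simp
      | @homogeneous i r =>
        rw [hβ _ _ r.2, map_mul, hΦu, show Φ (of r) = σ r from AdjoinRoot.lift_of _, hσ _ _ r.2,
          mul_assoc, ← LaurentPolynomial.T_add, add_neg_cancel, LaurentPolynomial.T_zero, mul_one]
      | add a b ha hb => rw [map_add, map_add, ha, hb, map_add, map_add]
  have := D.regularLocal_quo hreg
  have : IsRegularRing D.Quo := isRegularRing_iff.2 fun p _ => CAlg1.regular_localization _ p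
  have : IsRegularRing D.Quo[T;T⁻¹] := EGA4H10.isRegularRing_localization
    (Submonoid.powers (Polynomial.X : Polynomial D.Quo)) D.Quo[T;T⁻¹]
  exact IsRegularRing.of_ringEquiv (RingEquiv.ofRingHom Ψ Φ h1 h2)

end UnitDeg

end Groth.Agent.FiltBl13
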